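import Mathlib
import Cfsg.Agent.Lib.SuzukiTwo.Field
import Cfsg.Agent.Lib.ThreeInvol.Solvable

/-!
A 2-group with an involutory automorphism `α` and a commuting automorphism `ρ` transitive on the
non-trivial fixed points: field coordinates on the fixed subgroup and equivariant bilinear forms.
-/

set_option autoImplicit false
set_option linter.unusedSectionVars false
set_option linter.style.haveILetI false

namespace Cfsg.Agent.FixedTransitive

/-- A biadditive map commuting with diagonal scalars. -/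
theorem sq_biadd {K : Type*} [Field K] [Finite K] [CharP K 2] (B : K → K → K)
    (hl : ∀ x z y, B (x + z) y = B x y + B z y) (hr : ∀ x y z, B x (y + z) = B x y + B x z)
    (hs : ∀ μ x y, μ ≠ 0 → B (μ * x) (μ * y) = μ * B x y) (x y : K) :
    B x y ^ 2 = B 1 1 ^ 2 * (x * y) := by
  have h2 : (2 : K) = 0 := CharTwo.two_eq_zero
  set f := fun y => B 1 y with hfdef
  have hf : ∀ x y, x ≠ 0 → B x y = x * f (x⁻¹ * y) := fun x y hx => by
    have h := hs x 1 (x⁻¹ * y) hx
    rw [mul_one, mul_inv_cancel_left₀ hx] at h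
    exact h
  have hz : ∀ y, B 0 y = 0 := fun y => by
    have h := hl 0 0 y
    rw [add_zero] at h
    exact left_eq_add.mp h
  have hkey : ∀ s t : K, t ≠ 0 → f (t * s) = t * f (t⁻¹ * s) := by
    intro s t ht
    by_cases ht1 : t = 1
    · simp [ht1]
    have h1t : 1 + t ≠ 0 := fun e => ht1 (CharTwo.add_eq_zero.1 e).symm
    have e1 : B (1 + t) ((1 + t) * s) = (1 + t) * f s := by rw [hf _ _ h1t, inv_mul_cancel_left₀ h1t]
    have e2 : B 1 ((1 + t) * s) = f s + f (t * s) := by rw [add_mul, one_mul, hr]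
    have e3 : B t ((1 + t) * s) = t * f (t⁻¹ * s) + t * f s := by
      rw [hf t _ ht, show t⁻¹ * ((1 + t) * s) = t⁻¹ * s + s by field_simp]
      simp only [hfdef, hr, mul_add]
    have h := hl 1 t ((1 + t) * s)
    rw [e1, e2, e3] at h
    linear_combination -h - t * f (t⁻¹ * s) * h2
  by_cases hx : x = 0
  · simp [hx, hz]
  obtain ⟨t, ht⟩ := (bijective_frobenius K 2).2 (x⁻¹ * y)
  rw [frobenius_def] at ht
  rw [hf x y hx]
  by_cases ht0 : t = 0
  · have hy : x⁻¹ * y = 0 := by rw [← ht, ht0]; simp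
    have hy0 : y = 0 := (mul_eq_zero.1 hy).resolve_left (inv_ne_zero hx)
    have h0 : f 0 = 0 := by
      have h := hr 1 0 0
      rw [add_zero] at h
      exact left_eq_add.mp h
    rw [hy, h0, hy0]
    ring
  · have h := hkey t t ht0
    rw [inv_mul_cancel₀ ht0, ← sq, ht] at h
    rw [h, mul_pow, mul_pow, ht]
    show x ^ 2 * (x⁻¹ * y * f 1 ^ 2) = B 1 1 ^ 2 * (x * y)
    rw [show f 1 = B 1 1 from rfl]
    field_simp

variable {Q : Type*} [Group Q] [Finite Q]

/-- The hypotheses. -/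
structure Setting (α ρ : MulAut Q) (n : ℕ) : Prop where
  two_le : 2 ≤ n
  two : IsPGroup 2 Q
  invol : ∀ x, α (α x) = x
  comm : ∀ x, α (ρ x) = ρ (α x)
  card : Nat.card {x // α x = x} = 2 ^ n
  sq_one : ∀ x, α x = x → x * x = 1
  trans : ∀ x y, α x = x → α y = y → x ≠ 1 → y ≠ 1 → ∃ k : ℕ, (ρ ^ k) x = y

/-- The fixed subgroup. -/
abbrev Fix (α : MulAut Q) : Subgroup Q := ThreeInvol.fixedSubgroup α

theorem mem_Fix {α : MulAut Q} {x : Q} : x ∈ Fix α ↔ α x = x := Iff.rfl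

namespace Setting

variable {α ρ : MulAut Q} {n : ℕ} (h : Setting α ρ n)
include h

theorem comm_pow (k : ℕ) (x : Q) : α ((ρ ^ k) x) = (ρ ^ k) (α x) := by
  induction k with
  | zero => simp
  | succ k ih => rw [pow_succ', MulAut.mul_apply, h.comm, ih, MulAut.mul_apply]

theorem pow_mem_Fix {x : Q} (hx : x ∈ Fix α) (k : ℕ) : (ρ ^ k) x ∈ Fix α := by
  rw [mem_Fix, h.comm_pow, mem_Fix.1 hx]

theorem card_Fix : Nat.card (Fix α) = 2 ^ n := h.card

theorem exists_ne_one : ∃ c ∈ Fix α, c ≠ 1 := by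
  by_contra hc
  push Not at hc
  have h1 := h.card_Fix
  rw [Subgroup.card_eq_one.2 ((Subgroup.eq_bot_iff_forall _).2 hc)] at h1
  have : 2 ^ 2 ≤ 2 ^ n := Nat.pow_le_pow_right (by norm_num) h.two_le
  omega

/-- A `ρ`-stable subgroup containing a non-trivial fixed point contains all of them. -/
theorem Fix_le_of_stable {S : Subgroup Q} (hS : ∀ x ∈ S, ρ x ∈ S) {c : Q} (hc : c ∈ S) (hcf : α c = c)
    (hc1 : c ≠ 1) : Fix α ≤ S := by
  intro d hd
  by_cases hd1 : d = 1
  · rw [hd1]; exact one_mem S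
  obtain ⟨k, rfl⟩ := h.trans c d hcf hd hc1 hd1
  clear hd hd1
  induction k with
  | zero => simpa
  | succ k ih => rw [pow_succ', MulAut.mul_apply]; exact hS _ ih

theorem Fix_le_center : Fix α ≤ Subgroup.center Q := by
  haveI : Fact (Nat.Prime 2) := ⟨Nat.prime_two⟩
  haveI : Nontrivial Q := by
    obtain ⟨c, -, hc1⟩ := h.exists_ne_one
    exact ⟨⟨c, 1, hc1⟩⟩
  have hinv : ∀ (β : MulAut Q) (z : Q), z ∈ Subgroup.center Q → β z ∈ Subgroup.center Q := fun β z hz =>
    Subgroup.mem_center_iff.2 fun g => by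
      obtain ⟨g, rfl⟩ := β.surjective g
      rw [← map_mul, ← map_mul, Subgroup.mem_center_iff.1 hz]
  let α' : MulAut (Subgroup.center Q) :=
    { toFun := fun z => ⟨α z.1, hinv α z.1 z.2⟩
      invFun := fun z => ⟨α z.1, hinv α z.1 z.2⟩
      left_inv := fun z => Subtype.ext (h.invol _)
      right_inv := fun z => Subtype.ext (h.invol _)
      map_mul' := fun a b => Subtype.ext (map_mul α a.1 b.1) }
  have hmod := ThreeInvol.card_fixed_modEq_prime (σ := α') (p := 2)
    (MulEquiv.ext fun z => Subtype.ext (by rw [pow_two]; exact h.invol _))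
  haveI := IsPGroup.center_nontrivial h.two
  obtain ⟨k, hk⟩ := IsPGroup.iff_card.1 (h.two.to_subgroup (Subgroup.center Q))
  have hk0 : k ≠ 0 := fun e => by
    have : 1 < Nat.card (Subgroup.center Q) := Finite.one_lt_card
    rw [hk, e, pow_zero] at this
    exact lt_irrefl 1 this
  have heven : 2 ∣ Nat.card {z : Subgroup.center Q // α' z = z} :=
    (Nat.ModEq.dvd_iff hmod (dvd_refl 2)).1 (hk ▸ dvd_pow_self 2 hk0)
  obtain ⟨z, hz, hz1⟩ : ∃ z : Subgroup.center Q, α' z = z ∧ z ≠ 1 := by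
    by_contra hc
    push Not at hc
    have : Nat.card {z : Subgroup.center Q // α' z = z} = 1 := Nat.card_eq_one_iff_exists.2
      ⟨⟨1, map_one α'⟩, fun w => Subtype.ext (hc w.1 w.2)⟩
    omega
  exact h.Fix_le_of_stable (fun x hx => hinv ρ x hx) z.2 (congrArg Subtype.val hz)
    fun e => hz1 (Subtype.ext e)

theorem central {c : Q} (hc : c ∈ Fix α) (g : Q) : g * c = c * g :=
  Subgroup.mem_center_iff.1 (h.Fix_le_center hc) g

theorem inv_fix {c : Q} (hc : c ∈ Fix α) : c⁻¹ = c := inv_eq_of_mul_eq_one_right (h.sq_one c hc)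

/-- Field coordinates on the fixed subgroup. -/
theorem exists_coord : ∃ (K : Type) (_ : Field K) (_ : Fintype K) (_ : CharP K 2), Fintype.card K = 2 ^ n ∧
    ∃ ι : Fix α → K, Function.Bijective ι ∧ (∀ a b, ι (a * b) = ι a + ι b) ∧
      ∀ μ : K, μ ≠ 0 → ∃ k : ℕ, ∀ (c : Q) (hc : c ∈ Fix α), ι ⟨(ρ ^ k) c, h.pow_mem_Fix hc k⟩ = μ * ι ⟨c, hc⟩ := by
  classical
  haveI : Fact (Nat.Prime 2) := ⟨Nat.prime_two⟩
  letI : CommGroup (Fix α) :=
    { (inferInstance : Group (Fix α)) with mul_comm := fun a b => Subtype.ext (h.central b.2 a) }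
  let ρC : MulAut (Fix α) :=
    MulEquiv.ofBijective ((ρ.toMonoidHom.comp (Fix α).subtype).codRestrict (Fix α)
      fun c => by simpa using h.pow_mem_Fix c.2 1)
      (Finite.injective_iff_bijective.1 fun a b e => Subtype.ext (ρ.injective (congrArg Subtype.val e)))
  have hρC : ∀ (k : ℕ) (c : Fix α), ((ρC ^ k) c : Q) = (ρ ^ k) c := by
    intro k
    induction k with
    | zero => intro c; rfl
    | succ k ih => intro c; rw [pow_succ', pow_succ', MulAut.mul_apply, MulAut.mul_apply, ← ih]; rfl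
  let φ : Subgroup.zpowers ρC →* AddMonoid.End (Additive (Fix α)) :=
    { toFun := fun g => MonoidHom.toAdditive (g.1 : MulAut (Fix α)).toMonoidHom
      map_one' := by ext a; rfl
      map_mul' := fun g g' => by ext a; rfl }
  have hnat : ∀ g : Subgroup.zpowers ρC, ∃ k : ℕ, g.1 = ρC ^ k := fun g =>
    (mem_powers_iff_mem_zpowers.2 g.2).elim fun k hk => ⟨k, hk.symm⟩
  obtain ⟨m, -, hm, ι, lam, hlam, hι⟩ := SuzukiTwo.exists_field_coord φ
    (fun a => Additive.toMul.injective (Subtype.ext (h.sq_one _ a.toMul.2)))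
    (by
      haveI : Fintype (Fix α) := Fintype.ofFinite _
      have h2 : (1 : ℕ) < ((Finset.univ : Finset (Fix α)).erase 1).card := by
        rw [Finset.card_erase_of_mem (Finset.mem_univ _), Finset.card_univ, ← Nat.card_eq_fintype_card, h.card_Fix]
        have : 2 ^ 2 ≤ 2 ^ n := Nat.pow_le_pow_right (by norm_num) h.two_le
        omega
      obtain ⟨a, ha, b, hb, hab⟩ := Finset.one_lt_card.1 h2
      exact ⟨Additive.ofMul a, Additive.ofMul b, fun e => (Finset.mem_erase.1 ha).1 (Additive.ofMul.injective e),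
        fun e => (Finset.mem_erase.1 hb).1 (Additive.ofMul.injective e), fun e => hab (Additive.ofMul.injective e)⟩)
    (fun a b ha hb => by
      have ha' : (a.toMul : Q) ≠ 1 := fun e => ha (Additive.toMul.injective (Subtype.ext e))
      have hb' : (b.toMul : Q) ≠ 1 := fun e => hb (Additive.toMul.injective (Subtype.ext e))
      obtain ⟨k, hk⟩ := h.trans _ _ a.toMul.2 b.toMul.2 ha' hb'
      have hk' : (ρC ^ k) a.toMul = b.toMul := Subtype.ext ((hρC k _).trans hk)
      refine ⟨⟨ρC ^ k, pow_mem (Subgroup.mem_zpowers _) k⟩, congrArg Additive.ofMul hk', fun g hg => ?_⟩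
      obtain ⟨l, hl⟩ := hnat g
      have hg' : (ρC ^ l) a.toMul = b.toMul := by rw [← hl]; exact congrArg Additive.toMul hg
      refine Subtype.ext (MulEquiv.ext fun c => ?_)
      rw [hl]
      by_cases hc : (c : Q) = 1
      · rw [show c = 1 from Subtype.ext hc, map_one, map_one]
      obtain ⟨j, hj⟩ := h.trans _ _ a.toMul.2 c.2 ha' hc
      have hj' : (ρC ^ j) a.toMul = c := Subtype.ext ((hρC j _).trans hj)
      show (ρC ^ l) c = (ρC ^ k) c
      rw [← hj', ← MulAut.mul_apply, ← MulAut.mul_apply, ← pow_add, ← pow_add, add_comm l j, add_comm k j,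
        pow_add, pow_add, MulAut.mul_apply, MulAut.mul_apply, hg', hk'])
  have hmn : m = n := by
    refine Nat.pow_right_injective le_rfl ?_
    show 2 ^ m = 2 ^ n
    rw [← hm, ← h.card_Fix]
    exact Nat.card_congr Additive.toMul
  subst hmn
  letI : Fintype (GaloisField 2 m) := Fintype.ofFinite _
  refine ⟨GaloisField 2 m, inferInstance, inferInstance, inferInstance, ?_, fun c => ι (Additive.ofMul c),
    ι.bijective.comp Additive.ofMul.bijective, fun a b => map_add ι (Additive.ofMul a) (Additive.ofMul b), fun μ hμ => ?_⟩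
  · rw [← Nat.card_eq_fintype_card, GaloisField.card 2 m (by have := h.two_le; omega)]
  · obtain ⟨g, hg⟩ := hlam.2 (Units.mk0 μ hμ)
    obtain ⟨k, hk⟩ := hnat g
    refine ⟨k, fun c hc => ?_⟩
    have e := hι g (Additive.ofMul ⟨c, hc⟩)
    rw [hg, Units.val_mk0] at e
    rw [← e]
    refine congrArg ι (congrArg Additive.ofMul (Subtype.ext ?_))
    show (ρ ^ k) c = ((g.1 ⟨c, hc⟩ : Fix α) : Q)
    rw [hk, hρC]

/-- A `ρ`-equivariant biadditive form between two groups over the fixed subgroup which is degenerate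
somewhere is trivial, and so is an alternating one. -/
theorem form_trivial {M N : Type*} [Group M] [Group N] (σ : MulAut M) (τ : MulAut N) (e : M →* Q) (f : N →* Q)
    (he : e.range = Fix α) (hf : f.range = Fix α) (heσ : ∀ m, e (σ m) = ρ (e m)) (hfτ : ∀ x, f (τ x) = ρ (f x))
    (B : M → N → Q) (hB : ∀ m x, B m x ∈ Fix α)
    (hl : ∀ m m' x, B (m * m') x = B m x * B m' x) (hr : ∀ m x x', B m (x * x') = B m x * B m x')
    (hke : ∀ m x, e m = 1 → B m x = 1) (hkf : ∀ m x, f x = 1 → B m x = 1)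
    (heq : ∀ m x, B (σ m) (τ x) = ρ (B m x))
    (hdeg : ∃ m x, e m ≠ 1 ∧ f x ≠ 1 ∧ B m x = 1) : ∀ m x, B m x = 1 := by
  classical
  obtain ⟨K, _, _, _, -, ι, hι, hιm, hρ⟩ := h.exists_coord
  have hle : ∀ m, e m ∈ Fix α := fun m => he.le ⟨m, rfl⟩
  have hlf : ∀ x, f x ∈ Fix α := fun x => hf.le ⟨x, rfl⟩
  have hse : ∀ u : K, ∃ m, ι ⟨e m, hle m⟩ = u := fun u => by
    obtain ⟨c, rfl⟩ := hι.2 u
    obtain ⟨m, hm⟩ : c.1 ∈ e.range := he.ge c.2
    exact ⟨m, congrArg ι (Subtype.ext hm)⟩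
  have hsf : ∀ u : K, ∃ x, ι ⟨f x, hlf x⟩ = u := fun u => by
    obtain ⟨c, rfl⟩ := hι.2 u
    obtain ⟨x, hx⟩ : c.1 ∈ f.range := hf.ge c.2
    exact ⟨x, congrArg ι (Subtype.ext hx)⟩
  choose se hse' using hse
  choose sf hsf' using hsf
  have hι1 : ι 1 = 0 := by
    have := hιm 1 1
    rw [one_mul] at this
    exact left_eq_add.mp this
  have hwd : ∀ m m' x x', ι ⟨e m, hle m⟩ = ι ⟨e m', hle m'⟩ → ι ⟨f x, hlf x⟩ = ι ⟨f x', hlf x'⟩ →
      B m x = B m' x' := by
    intro m m' x x' h1 h2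
    have e1' : e m = e m' := congrArg Subtype.val (hι.1 h1)
    have e2' : f x = f x' := congrArg Subtype.val (hι.1 h2)
    have e1 : e (m'⁻¹ * m) = 1 := by rw [map_mul, map_inv, e1', inv_mul_cancel]
    have e2 : f (x'⁻¹ * x) = 1 := by rw [map_mul, map_inv, e2', inv_mul_cancel]
    calc B m x = B (m' * (m'⁻¹ * m)) x := by rw [mul_inv_cancel_left]
      _ = B m' x := by rw [hl, hke _ _ e1, mul_one]
      _ = B m' (x' * (x'⁻¹ * x)) := by rw [mul_inv_cancel_left]
      _ = B m' x' := by rw [hr, hkf _ _ e2, mul_one]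
  let b : K → K → K := fun u v => ι ⟨B (se u) (sf v), hB _ _⟩
  have hb : ∀ m x, ι ⟨B m x, hB m x⟩ = b (ι ⟨e m, hle m⟩) (ι ⟨f x, hlf x⟩) := fun m x =>
    congrArg ι (Subtype.ext (hwd _ _ _ _ (hse' _).symm (hsf' _).symm))
  have hbl : ∀ u v w, b (u + v) w = b u w + b v w := fun u v w => by
    have e1 : ι ⟨e (se u * se v), hle _⟩ = u + v := by
      rw [show (⟨e (se u * se v), hle _⟩ : Fix α) = ⟨e (se u), hle _⟩ * ⟨e (se v), hle _⟩ from
        Subtype.ext (map_mul e _ _), hιm, hse', hse']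
    conv_lhs => rw [← e1, ← hsf' w, ← hb]
    rw [← hιm]
    exact congrArg ι (Subtype.ext (hl _ _ _))
  have hbr : ∀ u v w, b u (v + w) = b u v + b u w := fun u v w => by
    have e1 : ι ⟨f (sf v * sf w), hlf _⟩ = v + w := by
      rw [show (⟨f (sf v * sf w), hlf _⟩ : Fix α) = ⟨f (sf v), hlf _⟩ * ⟨f (sf w), hlf _⟩ from
        Subtype.ext (map_mul f _ _), hιm, hsf', hsf']
    conv_lhs => rw [← e1, ← hse' u, ← hb]
    rw [← hιm]
    exact congrArg ι (Subtype.ext (hr _ _ _))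
  have hek : ∀ k m, e ((σ ^ k) m) = (ρ ^ k) (e m) := by
    intro k
    induction k with
    | zero => intro m; simp
    | succ k ih => intro m; rw [pow_succ', pow_succ', MulAut.mul_apply, MulAut.mul_apply, heσ, ih]
  have hfk : ∀ k x, f ((τ ^ k) x) = (ρ ^ k) (f x) := by
    intro k
    induction k with
    | zero => intro m; simp
    | succ k ih => intro m; rw [pow_succ', pow_succ', MulAut.mul_apply, MulAut.mul_apply, hfτ, ih]
  have hBk : ∀ k m x, B ((σ ^ k) m) ((τ ^ k) x) = (ρ ^ k) (B m x) := by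
    intro k
    induction k with
    | zero => intro m x; simp
    | succ k ih => intro m x; simp only [pow_succ', MulAut.mul_apply, heq, ih]
  have hbs : ∀ μ u v, μ ≠ 0 → b (μ * u) (μ * v) = μ * b u v := fun μ u v hμ => by
    obtain ⟨k, hk⟩ := hρ μ hμ
    have e1 : ι ⟨e ((σ ^ k) (se u)), hle _⟩ = μ * u := by
      rw [show (⟨e ((σ ^ k) (se u)), hle _⟩ : Fix α) = ⟨(ρ ^ k) (e (se u)), h.pow_mem_Fix (hle _) k⟩ from
        Subtype.ext (hek k _), hk _ (hle _), hse']
    have e2 : ι ⟨f ((τ ^ k) (sf v)), hlf _⟩ = μ * v := by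
      rw [show (⟨f ((τ ^ k) (sf v)), hlf _⟩ : Fix α) = ⟨(ρ ^ k) (f (sf v)), h.pow_mem_Fix (hlf _) k⟩ from
        Subtype.ext (hfk k _), hk _ (hlf _), hsf']
    conv_lhs => rw [← e1, ← e2, ← hb]
    rw [show (⟨B ((σ ^ k) (se u)) ((τ ^ k) (sf v)), hB _ _⟩ : Fix α) =
      ⟨(ρ ^ k) (B (se u) (sf v)), h.pow_mem_Fix (hB _ _) k⟩ from Subtype.ext (hBk k _ _), hk _ (hB _ _)]
  have hsq := sq_biadd b hbl hbr hbs
  obtain ⟨m0, x0, hm0, hx0, hB0⟩ := hdeg
  have hc : b 1 1 = 0 := by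
    have hh := hsq (ι ⟨e m0, hle m0⟩) (ι ⟨f x0, hlf x0⟩)
    rw [← hb, show (⟨B m0 x0, hB m0 x0⟩ : Fix α) = 1 from Subtype.ext hB0, hι1] at hh
    have hne1 : ι ⟨e m0, hle m0⟩ ≠ 0 := fun e' => hm0 (congrArg Subtype.val (hι.1 (e'.trans hι1.symm)))
    have hne2 : ι ⟨f x0, hlf x0⟩ ≠ 0 := fun e' => hx0 (congrArg Subtype.val (hι.1 (e'.trans hι1.symm)))
    have hz : b 1 1 ^ 2 * (ι ⟨e m0, hle m0⟩ * ι ⟨f x0, hlf x0⟩) = 0 := by rw [← hh]; ring
    exact eq_zero_of_pow_eq_zero ((mul_eq_zero.1 hz).resolve_right (mul_ne_zero hne1 hne2))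
  intro m x
  have hh := hsq (ι ⟨e m, hle m⟩) (ι ⟨f x, hlf x⟩)
  rw [← hb, hc, zero_pow two_ne_zero, zero_mul] at hh
  exact congrArg Subtype.val (hι.1 ((eq_zero_of_pow_eq_zero hh).trans hι1.symm))

/-- An equivariant alternating form over the fixed subgroup is trivial. -/
theorem alt_trivial {M : Type*} [Group M] (σ : MulAut M) (e : M →* Q)
    (he : e.range = Fix α) (heσ : ∀ m, e (σ m) = ρ (e m))
    (B : M → M → Q) (hB : ∀ m x, B m x ∈ Fix α)
    (hl : ∀ m m' x, B (m * m') x = B m x * B m' x) (hr : ∀ m x x', B m (x * x') = B m x * B m x')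
    (hke : ∀ m x, e m = 1 → B m x = 1 ∧ B x m = 1)
    (heq : ∀ m x, B (σ m) (σ x) = ρ (B m x)) (halt : ∀ m, B m m = 1) : ∀ m x, B m x = 1 := by
  obtain ⟨c, hc, hc1⟩ := h.exists_ne_one
  obtain ⟨m, hm⟩ : c ∈ e.range := he.ge hc
  exact h.form_trivial σ σ e e he he heσ heσ B hB hl hr (fun m x hh => (hke m x hh).1)
    (fun m x hh => (hke x m hh).2) heq ⟨m, m, by rw [hm]; exact hc1, by rw [hm]; exact hc1, halt m⟩

end Setting

end Cfsg.Agent.FixedTransitive
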