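import Mathlib

/-!
Two central extensions of elementary abelian 2-groups with the same square map are isomorphic.
-/

set_option autoImplicit false
set_option linter.unusedSectionVars false

namespace Cfsg.Agent.FixedTransitive

/-- A central extension of `W` by `V` with square map `qf`. -/
structure SqExt (Q : Type*) [Group Q] (V W : Type*) [AddCommGroup V] [AddCommGroup W] (qf : V → W) where
  /-- the projection -/
  f : Q → V
  f_mul : ∀ x y, f (x * y) = f x + f y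
  f_surj : Function.Surjective f
  /-- the coordinates on the kernel -/
  g : Q → W
  g_mul : ∀ x y, f x = 0 → f y = 0 → g (x * y) = g x + g y
  g_inj : ∀ x, f x = 0 → g x = 0 → x = 1
  g_surj : ∀ w, ∃ x, f x = 0 ∧ g x = w
  central : ∀ x, f x = 0 → ∀ y, y * x = x * y
  sq : ∀ y, g (y * y) = qf (f y)

variable {V W : Type*} [AddCommGroup V] [AddCommGroup W] {qf : V → W}
variable {Q1 Q2 : Type*} [Group Q1] [Group Q2]

namespace SqExt

variable (E : SqExt Q1 V W qf)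

theorem f_one : E.f 1 = 0 := by simpa using E.f_mul 1 1

theorem g_one : E.g 1 = 0 := by simpa using E.g_mul 1 1 E.f_one E.f_one

theorem f_inv (x : Q1) : E.f x⁻¹ = -E.f x :=
  eq_neg_of_add_eq_zero_left (by rw [← E.f_mul, inv_mul_cancel, E.f_one])

end SqExt

/-- The criterion. -/
theorem nonempty_mulEquiv [Finite Q1] [Finite Q2] (hV : ∀ v : V, v + v = 0) (E1 : SqExt Q1 V W qf)
    (E2 : SqExt Q2 V W qf) : Nonempty (Q1 ≃* Q2) := by
  classical
  let H : Subgroup (Q1 × Q2) :=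
    { carrier := {p | E1.f p.1 = E2.f p.2}
      one_mem' := by simp [SqExt.f_one]
      mul_mem' := fun {a b} ha hb => by
        show E1.f (a.1 * b.1) = E2.f (a.2 * b.2)
        rw [E1.f_mul, E2.f_mul, ha, hb]
      inv_mem' := fun {a} ha => by
        show E1.f a.1⁻¹ = E2.f a.2⁻¹
        rw [E1.f_inv, E2.f_inv, ha] }
  let G0 : Subgroup (Q1 × Q2) :=
    { carrier := {p | E1.f p.1 = 0 ∧ E2.f p.2 = 0 ∧ E1.g p.1 = E2.g p.2}
      one_mem' := by simp [SqExt.f_one, SqExt.g_one]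
      mul_mem' := fun {a b} ha hb => ⟨by simp [E1.f_mul, ha.1, hb.1], by simp [E2.f_mul, ha.2.1, hb.2.1], by
        show E1.g (a.1 * b.1) = E2.g (a.2 * b.2)
        rw [E1.g_mul _ _ ha.1 hb.1, E2.g_mul _ _ ha.2.1 hb.2.1, ha.2.2, hb.2.2]⟩
      inv_mem' := fun {a} ha => by
        refine ⟨by simp [E1.f_inv, ha.1], by simp [E2.f_inv, ha.2.1], ?_⟩
        have h1 : E1.f a.1⁻¹ = 0 := by simp [E1.f_inv, ha.1]
        have h2 : E2.f a.2⁻¹ = 0 := by simp [E2.f_inv, ha.2.1]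
        have e1 := E1.g_mul _ _ h1 ha.1
        have e2 := E2.g_mul _ _ h2 ha.2.1
        rw [inv_mul_cancel, E1.g_one] at e1
        rw [inv_mul_cancel, E2.g_one] at e2
        rw [ha.2.2] at e1
        exact add_right_cancel (e1.symm.trans e2) }
  have hG0H : G0 ≤ H := fun p hp => hp.1.trans hp.2.1.symm
  have hsq : ∀ p ∈ H, p * p ∈ G0 := fun p hp => by
    refine ⟨?_, ?_, ?_⟩
    · show E1.f (p.1 * p.1) = 0
      rw [E1.f_mul, hV]
    · show E2.f (p.2 * p.2) = 0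
      rw [E2.f_mul, hV]
    · show E1.g (p.1 * p.1) = E2.g (p.2 * p.2)
      rw [E1.sq, E2.sq, hp]
  have hcomm : ∀ a ∈ H, ∀ b ∈ H, a⁻¹ * b⁻¹ * a * b ∈ G0 := fun a ha b hb => by
    have e : a⁻¹ * b⁻¹ * a * b = (a⁻¹ * a⁻¹) * ((a * b⁻¹) * (a * b⁻¹)) * (b * b) := by simp [mul_assoc]
    rw [e]
    exact mul_mem (mul_mem (hsq _ (inv_mem ha)) (hsq _ (mul_mem ha (inv_mem hb)))) (hsq _ hb)
  let good : Subgroup (Q1 × Q2) → Prop := fun N =>
    G0 ≤ N ∧ N ≤ H ∧ ∀ p ∈ N, E1.f p.1 = 0 → p ∈ G0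
  obtain ⟨N, hN, hmax⟩ : ∃ N, good N ∧ ∀ N', good N' → N ≤ N' → N' ≤ N := by
    obtain ⟨N, -, hN⟩ := (Set.toFinite {N | good N}).exists_le_maximal (a := G0)
      ⟨le_rfl, hG0H, fun p hp _ => hp⟩
    exact ⟨N, hN.1, fun N' h' hle => hN.2 h' hle⟩
  obtain ⟨hNG, hNH, hN0⟩ := hN
  have hproj : ∀ v, ∃ p ∈ N, E1.f p.1 = v := by
    intro v
    by_contra hv
    push Not at hv
    obtain ⟨y1, hy1⟩ := E1.f_surj v
    obtain ⟨y2, hy2⟩ := E2.f_surj v
    set h : Q1 × Q2 := (y1, y2) with hh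
    have hhH : h ∈ H := hy1.trans hy2.symm
    have hconj : ∀ m ∈ N, h⁻¹ * m * h ∈ N := fun m hm => by
      have e : h⁻¹ * m * h = (h⁻¹ * m * h * m⁻¹) * m := by simp
      rw [e]
      have := hcomm h hhH m⁻¹ (inv_mem (hNH hm))
      rw [inv_inv] at this
      exact mul_mem (hNG this) hm
    let S : Submonoid (Q1 × Q2) :=
      { carrier := {z | z ∈ N ∨ h⁻¹ * z ∈ N}
        one_mem' := Or.inl (one_mem N)
        mul_mem' := fun {a b} ha hb => by
          rcases ha with ha | ha <;> rcases hb with hb | hb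
          · exact Or.inl (mul_mem ha hb)
          · right
            have := mul_mem (hconj a ha) hb
            rwa [show h⁻¹ * a * h * (h⁻¹ * b) = h⁻¹ * (a * b) by simp [mul_assoc]] at this
          · right
            have := mul_mem ha hb
            rwa [mul_assoc] at this
          · left
            have := mul_mem (mul_mem (hNG (hsq h hhH)) (hconj _ ha)) hb
            rwa [show h * h * (h⁻¹ * (h⁻¹ * a) * h) * (h⁻¹ * b) = a * b by simp [mul_assoc]] at this }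
    let N' : Subgroup (Q1 × Q2) :=
      { toSubmonoid := S
        inv_mem' := fun {z} hz => by
          show z⁻¹ ∈ S
          rw [inv_eq_of_mul_eq_one_right (b := z ^ (orderOf z - 1))]
          · exact S.pow_mem hz _
          · rw [← pow_succ', Nat.sub_add_cancel (orderOf_pos z), pow_orderOf_eq_one] }
    have hle : N ≤ N' := fun z hz => Or.inl hz
    have hN'H : N' ≤ H := by
      rintro z (hz | hz)
      · exact hNH hz
      · have := mul_mem hhH (hNH hz)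
        rwa [mul_inv_cancel_left] at this
    refine hv h (hmax N' ⟨hNG.trans hle, hN'H, ?_⟩ hle (Or.inr (by rw [inv_mul_cancel]; exact one_mem N))) hy1
    rintro z (hz | hz) hz0
    · exact hN0 z hz hz0
    · refine absurd ?_ (hv _ (inv_mem hz))
      show E1.f ((y1⁻¹ * z.1)⁻¹) = v
      rw [E1.f_inv, E1.f_mul, E1.f_inv, hy1, hz0, add_zero, neg_neg]
  let p1 : N →* Q1 := (MonoidHom.fst Q1 Q2).comp N.subtype
  let p2 : N →* Q2 := (MonoidHom.snd Q1 Q2).comp N.subtype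
  have hp1i : Function.Injective p1 := by
    rw [injective_iff_map_eq_one]
    rintro ⟨⟨x, y⟩, hm⟩ (rfl : x = 1)
    obtain ⟨h1, h2, h3⟩ := hN0 _ hm E1.f_one
    rw [E1.g_one] at h3
    exact Subtype.ext (Prod.ext rfl (E2.g_inj _ h2 h3.symm))
  have hp2i : Function.Injective p2 := by
    rw [injective_iff_map_eq_one]
    rintro ⟨⟨x, y⟩, hm⟩ (rfl : y = 1)
    obtain ⟨h1, h2, h3⟩ := hN0 _ hm ((hNH hm).trans E2.f_one)
    rw [E2.g_one] at h3
    exact Subtype.ext (Prod.ext (E1.g_inj _ h1 h3) rfl)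
  have hp1s : Function.Surjective p1 := fun y1 => by
    obtain ⟨m, hm, hmv⟩ := hproj (E1.f y1)
    have hc : E1.f (m.1⁻¹ * y1) = 0 := by rw [E1.f_mul, E1.f_inv, hmv, neg_add_cancel]
    obtain ⟨c2, hc2, hgc⟩ := E2.g_surj (E1.g (m.1⁻¹ * y1))
    refine ⟨⟨m * (m.1⁻¹ * y1, c2), mul_mem hm (hNG ⟨hc, hc2, hgc.symm⟩)⟩, ?_⟩
    show m.1 * (m.1⁻¹ * y1) = y1
    rw [mul_inv_cancel_left]
  have hp2s : Function.Surjective p2 := fun y2 => by
    obtain ⟨m, hm, hmv⟩ := hproj (E2.f y2)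
    have hc : E2.f (m.2⁻¹ * y2) = 0 := by rw [E2.f_mul, E2.f_inv, ← hNH hm, hmv, neg_add_cancel]
    obtain ⟨c1, hc1, hgc⟩ := E1.g_surj (E2.g (m.2⁻¹ * y2))
    refine ⟨⟨m * (c1, m.2⁻¹ * y2), mul_mem hm (hNG ⟨hc1, hc, hgc⟩)⟩, ?_⟩
    show m.2 * (m.2⁻¹ * y2) = y2
    rw [mul_inv_cancel_left]
  exact ⟨(MulEquiv.ofBijective p1 ⟨hp1i, hp1s⟩).symm.trans (MulEquiv.ofBijective p2 ⟨hp2i, hp2s⟩)⟩

end Cfsg.Agent.FixedTransitive
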