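import Cfsg.Agent.Lib.FixedTransitive.Coord

/-!
The map `x ↦ x⁻¹ α x`, the preimage `D` of the fixed subgroup under it, and the passage to the quotient
by the fixed subgroup.
-/

set_option autoImplicit false
set_option linter.unusedSectionVars false
set_option linter.style.haveILetI false

namespace Cfsg.Agent.FixedTransitive

variable {Q : Type*} [Group Q]

/-- The commutator. -/
def cm (a b : Q) : Q := a⁻¹ * b⁻¹ * a * b

/-- `x⁻¹ α x`. -/
def delta (α : MulAut Q) (x : Q) : Q := x⁻¹ * α x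

theorem apply_eq (α : MulAut Q) (x : Q) : α x = x * delta α x := by
  simp [delta]

theorem cm_eq_one {a b : Q} : cm a b = 1 ↔ a * b = b * a := by
  rw [cm, mul_assoc, mul_eq_one_iff_eq_inv, ← inv_inj, inv_inv]
  simp [mul_inv_rev, eq_comm]

theorem cm_self (a : Q) : cm a a = 1 := cm_eq_one.2 rfl

theorem cm_mul_right (a b c : Q) : cm a (b * c) = cm a c * (c⁻¹ * cm a b * c) := by
  simp [cm, mul_assoc]

theorem cm_mul_left (a b c : Q) : cm (a * b) c = b⁻¹ * cm a c * b * cm b c := by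
  simp [cm, mul_assoc]

theorem map_cm {M F : Type*} [Group M] [FunLike F Q M] [MonoidHomClass F Q M] (φ : F) (a b : Q) :
    φ (cm a b) = cm (φ a) (φ b) := by
  simp [cm, map_mul, map_inv]

variable [Finite Q]

/-- The restriction of an automorphism to a stable subgroup. -/
noncomputable def restrict (ρ : MulAut Q) (S : Subgroup Q) (hS : ∀ x ∈ S, ρ x ∈ S) : MulAut S :=
  MulEquiv.ofBijective ((ρ.toMonoidHom.comp S.subtype).codRestrict S fun c => hS c c.2)
    (Finite.injective_iff_bijective.1 fun _ _ e => Subtype.ext (ρ.injective (congrArg Subtype.val e)))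

theorem restrict_apply (ρ : MulAut Q) (S : Subgroup Q) (hS : ∀ x ∈ S, ρ x ∈ S) (x : S) :
    ((restrict ρ S hS x : S) : Q) = ρ x := rfl

namespace Setting

variable {α ρ : MulAut Q} {n : ℕ} (h : Setting α ρ n)
include h

theorem delta_rho (x : Q) : delta α (ρ x) = ρ (delta α x) := by
  simp [delta, h.comm]

theorem rho_mem_Fix {x : Q} (hx : x ∈ Fix α) : ρ x ∈ Fix α := by
  simpa using h.pow_mem_Fix hx 1

theorem normal : (Fix α).Normal :=
  ⟨fun c hc g => by rw [h.central hc g, mul_inv_cancel_right]; exact hc⟩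

theorem cm_fix_left {c : Q} (hc : c ∈ Fix α) (g : Q) : cm c g = 1 := cm_eq_one.2 (h.central hc g).symm

theorem cm_fix_right {c : Q} (hc : c ∈ Fix α) (g : Q) : cm g c = 1 := cm_eq_one.2 (h.central hc g)

theorem cm_mul_right' {a b : Q} (hb : cm a b ∈ Fix α) (c : Q) : cm a (b * c) = cm a b * cm a c := by
  rw [cm_mul_right, mul_assoc c⁻¹, ← h.central hb c, inv_mul_cancel_left, h.central hb]

theorem cm_mul_left' {a c : Q} (ha : cm a c ∈ Fix α) (b : Q) : cm (a * b) c = cm a c * cm b c := by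
  rw [cm_mul_left, mul_assoc b⁻¹, ← h.central ha b, inv_mul_cancel_left]

theorem cm_mul_fix_left {c : Q} (hc : c ∈ Fix α) (a b : Q) : cm (a * c) b = cm a b := by
  rw [cm_mul_left, h.cm_fix_left hc, mul_one, mul_assoc, h.central hc, inv_mul_cancel_left]

theorem cm_mul_fix_right {c : Q} (hc : c ∈ Fix α) (a b : Q) : cm a (b * c) = cm a b := by
  rw [cm_mul_right, h.cm_fix_right hc, one_mul, mul_assoc, h.central hc, inv_mul_cancel_left]

theorem delta_mul {x : Q} (hx : delta α x ∈ Fix α) (y : Q) : delta α (x * y) = delta α x * delta α y := by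
  have e : delta α (x * y) = y⁻¹ * delta α x * α y := by simp [delta, mul_assoc]
  rw [e, h.central hx y⁻¹, mul_assoc]
  rfl

theorem delta_eq_one {x : Q} : delta α x = 1 ↔ x ∈ Fix α := by
  rw [delta, inv_mul_eq_one, eq_comm, mem_Fix]

/-- The elements moved by `α` by a fixed point. -/
def D : Subgroup Q where
  carrier := {x | delta α x ∈ Fix α}
  one_mem' := by simp [delta]
  mul_mem' := fun {x y} hx hy => by
    show delta α (x * y) ∈ Fix α
    rw [h.delta_mul hx]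
    exact mul_mem hx hy
  inv_mem' := fun {x} hx => by
    show delta α x⁻¹ ∈ Fix α
    have hxx : delta α x * delta α x⁻¹ = 1 := by
      rw [← h.delta_mul hx, mul_inv_cancel]
      simp [delta]
    rw [← inv_eq_of_mul_eq_one_right hxx]
    exact inv_mem hx

theorem mem_D {x : Q} : x ∈ h.D ↔ delta α x ∈ Fix α := Iff.rfl

theorem Fix_le_D : Fix α ≤ h.D := fun x hx => by
  rw [h.mem_D, h.delta_eq_one.2 hx]
  exact one_mem _

theorem rho_mem_D {x : Q} (hx : x ∈ h.D) : ρ x ∈ h.D := by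
  rw [h.mem_D, h.delta_rho]
  exact h.rho_mem_Fix hx

theorem sq_D {x : Q} (hx : x ∈ h.D) : x * x ∈ Fix α :=
  h.delta_eq_one.1 (by rw [h.delta_mul hx, h.sq_one _ hx])

/-- `delta` on `D`. -/
def dHom : h.D →* Q where
  toFun x := delta α x
  map_one' := by simp [delta]
  map_mul' x y := h.delta_mul x.2 y

theorem dHom_apply (x : h.D) : h.dHom x = delta α (x : Q) := rfl

theorem range_eq {M : Type*} [Group M] (σ : MulAut M) (e : M →* Q) (heσ : ∀ m, e (σ m) = ρ (e m))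
    (hle : ∀ m, e m ∈ Fix α) (hne : ∃ m, e m ≠ 1) : e.range = Fix α := by
  obtain ⟨m, hm⟩ := hne
  refine le_antisymm (by rintro _ ⟨m', rfl⟩; exact hle m') ?_
  exact h.Fix_le_of_stable (by rintro _ ⟨m', rfl⟩; exact ⟨σ m', heσ m'⟩) ⟨m, rfl⟩ (hle m) hm

/-- A stable subgroup between the fixed points and `D` is one of the two. -/
theorem D_le_of_stable {S : Subgroup Q} (hS : ∀ x ∈ S, ρ x ∈ S) (hC : Fix α ≤ S) {x : Q} (hx : x ∈ S)
    (hxD : x ∈ h.D) (hxC : x ∉ Fix α) : h.D ≤ S := by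
  intro y hy
  have hT : ∀ z ∈ S ⊓ h.D, ρ z ∈ S ⊓ h.D := fun z hz => ⟨hS z hz.1, h.rho_mem_D hz.2⟩
  let e : (S ⊓ h.D : Subgroup Q) →* Q := h.dHom.comp (Subgroup.inclusion inf_le_right)
  have he := h.range_eq (restrict ρ _ hT) e (fun m => h.delta_rho m.1)
    (fun m => m.2.2) ⟨⟨x, hx, hxD⟩, fun e1 => hxC (h.delta_eq_one.1 e1)⟩
  obtain ⟨z, hz⟩ := he.ge (show delta α y ∈ Fix α from hy)
  have hz' : delta α (z : Q) = delta α y := hz
  have hzy : z.1⁻¹ * y ∈ Fix α := h.delta_eq_one.1 (by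
    have h1 := h.delta_mul z.2.2 (z.1⁻¹ * y)
    rw [mul_inv_cancel_left, hz'] at h1
    exact left_eq_mul.1 h1)
  have : z.1 * (z.1⁻¹ * y) ∈ S := mul_mem z.2.1 (hC hzy)
  rwa [mul_inv_cancel_left] at this

theorem exists_mem_D {y : Q} (hy : y ∉ Fix α) : ∃ x ∈ h.D, x ∉ Fix α := by
  haveI : Fact (Nat.Prime 2) := ⟨Nat.prime_two⟩
  haveI := h.normal
  have hmap : (Fix α).map α.toMonoidHom = Fix α := by
    refine le_antisymm ?_ fun x hx => ⟨x, hx, mem_Fix.1 hx⟩
    rintro _ ⟨x, hx, rfl⟩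
    show α x ∈ Fix α
    rw [mem_Fix.1 hx]; exact hx
  set α' : MulAut (Q ⧸ Fix α) := QuotientGroup.congr (Fix α) (Fix α) α hmap
  have hmod := ThreeInvol.card_fixed_modEq_prime (σ := α') (p := 2) (MulEquiv.ext fun z => by
    obtain ⟨z, rfl⟩ := QuotientGroup.mk_surjective z
    show α' (α' (z : Q ⧸ Fix α)) = (z : Q ⧸ Fix α)
    show ((α (α z) : Q) : Q ⧸ Fix α) = (z : Q ⧸ Fix α)
    rw [h.invol])
  haveI : Nontrivial (Q ⧸ Fix α) := ⟨⟨(y : Q ⧸ Fix α), 1, fun e => hy ((QuotientGroup.eq_one_iff y).1 e)⟩⟩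
  obtain ⟨k, hk⟩ := IsPGroup.iff_card.1 (h.two.to_quotient (Fix α))
  have hk0 : k ≠ 0 := fun e => by
    have : 1 < Nat.card (Q ⧸ Fix α) := Finite.one_lt_card
    rw [hk, e, pow_zero] at this
    exact lt_irrefl 1 this
  have heven : 2 ∣ Nat.card {z : Q ⧸ Fix α // α' z = z} :=
    (Nat.ModEq.dvd_iff hmod (dvd_refl 2)).1 (hk ▸ dvd_pow_self 2 hk0)
  by_contra hc
  push Not at hc
  have : Nat.card {z : Q ⧸ Fix α // α' z = z} = 1 := Nat.card_eq_one_iff_exists.2
    ⟨⟨1, map_one α'⟩, fun w => by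
      obtain ⟨w, hw⟩ := w
      obtain ⟨w, rfl⟩ := QuotientGroup.mk_surjective w
      refine Subtype.ext ((QuotientGroup.eq_one_iff w).2 (hc w ?_))
      exact QuotientGroup.eq.1 (show (w : Q ⧸ Fix α) = ((α w : Q) : Q ⧸ Fix α) from hw.symm)⟩
  omega

theorem range_dHom {y : Q} (hy : y ∉ Fix α) : h.dHom.range = Fix α := by
  obtain ⟨x, hx, hxC⟩ := h.exists_mem_D hy
  exact h.range_eq (restrict ρ h.D fun z hz => h.rho_mem_D hz) h.dHom (fun m => h.delta_rho m.1)
    (fun m => m.2) ⟨⟨x, hx⟩, fun e => hxC (h.delta_eq_one.1 e)⟩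

theorem card_D {y : Q} (hy : y ∉ Fix α) : Nat.card h.D = 2 ^ n * 2 ^ n := by
  have hker : h.dHom.ker = (Fix α).subgroupOf h.D := by
    ext z
    rw [MonoidHom.mem_ker, Subgroup.mem_subgroupOf]
    exact h.delta_eq_one
  rw [← h.dHom.ker.card_mul_index, Subgroup.index_ker, h.range_dHom hy, hker, h.card_Fix,
    Nat.card_congr (Subgroup.subgroupOfEquivOfLe h.Fix_le_D).toEquiv, h.card_Fix]

/-- `D` is abelian. -/
theorem D_comm {x y : Q} (hx : x ∈ h.D) (hy : y ∈ h.D) : cm x y = 1 := by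
  by_cases hC : ∀ z, z ∈ Fix α
  · exact h.cm_fix_left (hC x) y
  push Not at hC
  obtain ⟨z, hz⟩ := hC
  have hB : ∀ a b : h.D, cm (a : Q) b ∈ Fix α := fun a b => mem_Fix.2 (by
    rw [map_cm, apply_eq α a.1, apply_eq α b.1, h.cm_mul_fix_left a.2, h.cm_mul_fix_right b.2])
  exact h.alt_trivial (restrict ρ h.D fun z hz => h.rho_mem_D hz) h.dHom (h.range_dHom hz)
    (fun m => h.delta_rho m.1) (fun a b => cm (a : Q) b) hB
    (fun a a' b => h.cm_mul_left' (hB a b) a'.1) (fun a b b' => h.cm_mul_right' (hB a b) b'.1)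
    (fun a b e => ⟨h.cm_fix_left (h.delta_eq_one.1 e) _, h.cm_fix_right (h.delta_eq_one.1 e) _⟩)
    (fun a b => (map_cm ρ a.1 b.1).symm) (fun a => cm_self _) ⟨x, hx⟩ ⟨y, hy⟩

end Setting

end Cfsg.Agent.FixedTransitive
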