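import Cfsg.Agent.Lib.FixedTransitive.Main
import Cfsg.Agent.Lib.FixedTransitive.Criterion

/-!
In the non-abelian case the square map is `a U ^ 2 + U V + V ^ 2`.
-/

set_option autoImplicit false
set_option linter.unusedSectionVars false
set_option linter.style.haveILetI false

namespace Cfsg.Agent.FixedTransitive

universe u

variable {Q : Type u} [Group Q] [Finite Q] {α ρ : MulAut Q} {n : ℕ}

omit [Finite Q] in
theorem sq_prod (a b : Q) : a * b * (a * b) = a * a * (b * cm b a * b) := by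
  simp [cm, mul_assoc]

/-- The square map of `Q`. -/
theorem exists_sqExt (h : Setting α ρ n) (hS : Shape α n) (hρ : ρ ^ (2 ^ n - 1) = 1) :
    ∃ (K : Type) (_ : Field K) (_ : Fintype K) (_ : CharP K 2), Fintype.card K = 2 ^ n ∧
      ∃ a : K, Nonempty (SqExt Q (K × K) K (fun p => a * p.1 ^ 2 + p.1 * p.2 + p.2 ^ 2)) := by
  classical
  have hq : 4 ≤ 2 ^ n := le_trans (by norm_num) (Nat.pow_le_pow_right (by norm_num : 0 < 2) h.two_le)
  have hc : ∀ a b : Q, cm a b ∈ Fix α := fun a b => by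
    have e : cm a b = (a⁻¹ * a⁻¹) * ((a * b⁻¹) * (a * b⁻¹)) * (b * b) := by simp [cm, mul_assoc]
    rw [e]
    exact mul_mem (mul_mem (hS.sq _) (hS.sq _)) (hS.sq _)
  have hdD : ∀ y, delta α y ∈ h.D := fun y => by
    rw [h.mem_D]
    have e : delta α (delta α y) = (delta α y * delta α y)⁻¹ := by simp [delta, h.invol, mul_assoc]
    rw [e]
    exact inv_mem (hS.sq _)
  have hwC : ∃ w, w ∉ Fix α := by
    by_contra hcon
    push Not at hcon
    have e := h.card_Fix
    rw [Nat.card_congr (Equiv.subtypeUnivEquiv hcon), hS.card] at e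
    nlinarith
  obtain ⟨w, hw⟩ := hwC
  obtain ⟨y0, hy0⟩ : ∃ y, y ∉ h.D := by
    by_contra hcon
    push Not at hcon
    have e := h.card_D hw
    rw [Nat.card_congr (Equiv.subtypeUnivEquiv hcon), hS.card] at e
    nlinarith
  obtain ⟨K, _, _, _, hK, ι, hι, hιm, hρι⟩ := h.exists_coord
  -- coordinates on the fixed points as a function on `Q`
  let γ : Q → K := fun x => if hx : x ∈ Fix α then ι ⟨x, hx⟩ else 0
  have hγ : ∀ x (hx : x ∈ Fix α), γ x = ι ⟨x, hx⟩ := fun x hx => dif_pos hx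
  have hγm : ∀ x y, x ∈ Fix α → y ∈ Fix α → γ (x * y) = γ x + γ y := fun x y hx hy => by
    rw [hγ x hx, hγ y hy, hγ _ (mul_mem hx hy), ← hιm]
    rfl
  have hγ1 : γ 1 = 0 := by simpa using hγm 1 1 (one_mem _) (one_mem _)
  have hγi : ∀ x ∈ Fix α, γ x = 0 → x = 1 := fun x hx e => by
    rw [← hγ1, hγ x hx, hγ 1 (one_mem _)] at e
    exact congrArg Subtype.val (hι.1 e)
  have hγs : ∀ c : K, ∃ x ∈ Fix α, γ x = c := fun c => by
    obtain ⟨⟨x, hx⟩, rfl⟩ := hι.2 c
    exact ⟨x, hx, hγ x hx⟩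
  -- `ρ` is multiplication by a generator `lam` of `Kˣ`
  choose kf hkf using hρι
  let φ : Kˣ → Fin (2 ^ n - 1) := fun μ => ⟨kf μ.1 μ.ne_zero % (2 ^ n - 1), Nat.mod_lt _ (by omega)⟩
  have hmodk : ∀ k, ρ ^ (k % (2 ^ n - 1)) = ρ ^ k := fun k => (pow_eq_pow_mod k hρ).symm
  obtain ⟨c0, hc0, hc01⟩ := hγs 1
  have hφi : Function.Injective φ := fun μ ν e => by
    have e' : kf μ.1 μ.ne_zero % (2 ^ n - 1) = kf ν.1 ν.ne_zero % (2 ^ n - 1) := congrArg Fin.val e
    have e1 := hkf μ.1 μ.ne_zero c0 hc0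
    have e2 := hkf ν.1 ν.ne_zero c0 hc0
    rw [← hγ, ← hγ, hc01, mul_one] at e1 e2
    refine Units.ext ?_
    rw [← e1, ← e2, ← hmodk, e', hmodk]
  have hφ : Function.Bijective φ := by
    refine (Fintype.bijective_iff_injective_and_card φ).2 ⟨hφi, ?_⟩
    rw [Fintype.card_units, hK, Fintype.card_fin]
  obtain ⟨lam, hlam⟩ := hφ.2 ⟨1 % (2 ^ n - 1), Nat.mod_lt _ (by omega)⟩
  set l : K := lam.1 with hl
  have hl0 : l ≠ 0 := lam.ne_zero
  have hρ1 : ρ ^ (kf l hl0) = ρ := by
    have e : kf l hl0 % (2 ^ n - 1) = 1 % (2 ^ n - 1) := congrArg Fin.val hlam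
    rw [← hmodk, e, hmodk, pow_one]
  have hγρ : ∀ x ∈ Fix α, γ (ρ x) = l * γ x := fun x hx => by
    have e := hkf l hl0 x hx
    rw [← hγ, ← hγ, hρ1] at e
    exact e
  have hγρk : ∀ (k : ℕ), ∀ x ∈ Fix α, γ ((ρ ^ k) x) = l ^ k * γ x := fun k => by
    induction k with
    | zero => intro x _; simp
    | succ k ih =>
      intro x hx
      rw [pow_succ', MulAut.mul_apply, hγρ _ (h.pow_mem_Fix hx k), ih x hx, pow_succ', mul_assoc]
  have hgen : ∀ μ : K, μ ≠ 0 → ∃ k : ℕ, μ = l ^ k := fun μ hμ => ⟨kf μ hμ, by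
    have e := hkf μ hμ c0 hc0
    rw [← hγ, ← hγ, hγρk _ _ hc0, hc01, mul_one, mul_one] at e
    exact e.symm⟩
  have hlin : ∀ F : K → K, (∀ x y, F (x + y) = F x + F y) → (∀ x, F (l * x) = l * F x) →
      ∀ x, F x = F 1 * x := by
    intro F hFa hFl x
    by_cases hx : x = 0
    · subst hx
      have := hFa 0 0
      rw [add_zero] at this
      rw [mul_zero]; exact left_eq_add.mp this
    obtain ⟨k, rfl⟩ := hgen x hx
    clear hx
    induction k with
    | zero => simp
    | succ k ih => rw [pow_succ', hFl, ih]; ring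
  -- the two coordinates
  let u : Q → K := fun y => γ (delta α (delta α y))
  let s0 : Q → K := fun y => γ (delta α y)
  have hum : ∀ y z, u (y * z) = u y + u z := fun y z => by
    have e : delta α (y * z) = delta α y * cm (delta α y) z * delta α z := by simp [delta, cm, mul_assoc]
    show γ (delta α (delta α (y * z))) = _
    rw [e, h.delta_mul (show delta α y * cm (delta α y) z ∈ h.D from mul_mem (hdD y) (h.Fix_le_D (hc _ _))),
      h.delta_mul (hdD y), h.delta_eq_one.2 (hc _ _), mul_one, hγm _ _ (hdD y) (hdD z)]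
  have hu0 : ∀ y, u y = 0 ↔ y ∈ h.D := fun y =>
    ⟨fun e => h.delta_eq_one.1 (hγi _ (hdD y) e), fun e => by
      show γ _ = 0
      rw [h.delta_eq_one.2 e, hγ1]⟩
  have hs0m : ∀ y z, y ∈ h.D → z ∈ h.D → s0 (y * z) = s0 y + s0 z := fun y z hy hz => by
    show γ _ = _
    rw [h.delta_mul hy, hγm _ _ hy hz]
  have hs00 : ∀ y ∈ h.D, (s0 y = 0 ↔ y ∈ Fix α) := fun y hy =>
    ⟨fun e => h.delta_eq_one.1 (hγi _ hy e), fun e => by
      show γ _ = 0
      rw [h.delta_eq_one.2 e, hγ1]⟩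
  have hs0s : ∀ c : K, ∃ d ∈ h.D, s0 d = c := fun c => by
    obtain ⟨x, hx, rfl⟩ := hγs c
    obtain ⟨⟨d, hd⟩, hdx⟩ := (h.range_dHom hw).ge hx
    exact ⟨d, hd, congrArg γ hdx⟩
  -- a complement of `D` modulo the fixed points
  let good : Subgroup Q → Prop := fun S => Fix α ≤ S ∧ ∀ x ∈ S, x ∈ h.D → x ∈ Fix α
  obtain ⟨S, hS1, hSmax⟩ : ∃ S, good S ∧ ∀ S', good S' → S ≤ S' → S' ≤ S := by
    obtain ⟨S, -, hS'⟩ := (Set.toFinite {S | good S}).exists_le_maximal (a := Fix α)
      ⟨le_rfl, fun x hx _ => hx⟩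
    exact ⟨S, hS'.1, fun S' h' hle => hS'.2 h' hle⟩
  have hdec : ∀ y, ∃ d ∈ h.D, d⁻¹ * y ∈ S := by
    intro y
    by_contra hy
    push Not at hy
    let M : Submonoid Q :=
      { carrier := {z | z ∈ S ∨ y⁻¹ * z ∈ S}
        one_mem' := Or.inl (one_mem S)
        mul_mem' := fun {a b} ha hb => by
          have hconj : ∀ m ∈ S, y⁻¹ * m * y ∈ S := fun m hm => by
            have e : y⁻¹ * m * y = cm y m⁻¹ * m := by simp [cm]
            rw [e]; exact mul_mem (hS1.1 (hc _ _)) hm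
          rcases ha with ha | ha <;> rcases hb with hb | hb
          · exact Or.inl (mul_mem ha hb)
          · right
            have := mul_mem (hconj a ha) hb
            rwa [show y⁻¹ * a * y * (y⁻¹ * b) = y⁻¹ * (a * b) by simp [mul_assoc]] at this
          · right
            have := mul_mem ha hb
            rwa [mul_assoc] at this
          · left
            have := mul_mem (mul_mem (hS1.1 (hS.sq y)) (hconj _ ha)) hb
            rwa [show y * y * (y⁻¹ * (y⁻¹ * a) * y) * (y⁻¹ * b) = a * b by simp [mul_assoc]] at this }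
    let S' : Subgroup Q :=
      { toSubmonoid := M
        inv_mem' := fun {z} hz => by
          show z⁻¹ ∈ M
          rw [inv_eq_of_mul_eq_one_right (b := z ^ (orderOf z - 1))]
          · exact M.pow_mem hz _
          · rw [← pow_succ', Nat.sub_add_cancel (orderOf_pos z), pow_orderOf_eq_one] }
    have hle : S ≤ S' := fun z hz => Or.inl hz
    have hyS : y ∈ S := hSmax S' ⟨hS1.1.trans hle, ?_⟩ hle (Or.inr (by rw [inv_mul_cancel]; exact one_mem S))
    · exact hy 1 (one_mem _) (by rwa [inv_one, one_mul])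
    · rintro z (hz | hz) hzD
      · exact hS1.2 z hz hzD
      · refine absurd ?_ (hy z hzD)
        rw [← inv_mem_iff, mul_inv_rev, inv_inv]
        exact hz
  choose dd hdd hdS using hdec
  let v0 : Q → K := fun y => s0 (dd y)
  have hv0 : ∀ y d, d ∈ h.D → d⁻¹ * y ∈ S → v0 y = s0 d := fun y d hd hdy => by
    have e1 : d⁻¹ * dd y ∈ S := by
      have := mul_mem hdy (inv_mem (hdS y))
      rwa [show d⁻¹ * y * ((dd y)⁻¹ * y)⁻¹ = d⁻¹ * dd y by simp [mul_assoc]] at this
    have e2 := (hs00 _ (mul_mem (inv_mem hd) (hdd y))).2 (hS1.2 _ e1 (mul_mem (inv_mem hd) (hdd y)))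
    show s0 (dd y) = s0 d
    rw [← mul_inv_cancel_left d (dd y), hs0m _ _ hd (mul_mem (inv_mem hd) (hdd y)), e2, add_zero]
  have hv0m : ∀ y z, v0 (y * z) = v0 y + v0 z := fun y z => by
    refine (hv0 _ (dd y * dd z) (mul_mem (hdd y) (hdd z)) ?_).trans (hs0m _ _ (hdd y) (hdd z))
    have hm : (dd y)⁻¹ * y * cm ((dd y)⁻¹ * y) (dd z) * ((dd z)⁻¹ * z) ∈ S :=
      mul_mem (mul_mem (hdS y) (hS1.1 (hc _ _))) (hdS z)
    have e : (dd y * dd z)⁻¹ * (y * z) =
        (dd y)⁻¹ * y * cm ((dd y)⁻¹ * y) (dd z) * ((dd z)⁻¹ * z) := by simp [cm, mul_assoc]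
    rw [e]; exact hm
  have hv0d : ∀ d ∈ h.D, v0 d = s0 d := fun d hd => hv0 d d hd (by rw [inv_mul_cancel]; exact one_mem S)
  set m := 2 ^ n - 1 with hm
  let term : ℕ → Q → K := fun k y => l⁻¹ ^ k * v0 ((ρ ^ k) y)
  let v : Q → K := fun y => ∑ k ∈ Finset.range m, term k y
  have hvm : ∀ y z, v (y * z) = v y + v z := fun y z => by
    show ∑ k ∈ Finset.range m, term k (y * z) = _
    rw [← Finset.sum_add_distrib]
    refine Finset.sum_congr rfl fun k _ => ?_
    show _ * v0 _ = _ * v0 _ + _ * v0 _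
    rw [map_mul, hv0m, mul_add]
  have hlm : l ^ m = 1 := by
    rw [hm, ← hK]
    exact FiniteField.pow_card_sub_one_eq_one l hl0
  have hvρ : ∀ y, v (ρ y) = l * v y := fun y => by
    have hshift : ∀ k, term k (ρ y) = l * term (k + 1) y := fun k => by
      show l⁻¹ ^ k * v0 ((ρ ^ k) (ρ y)) = l * (l⁻¹ ^ (k + 1) * v0 ((ρ ^ (k + 1)) y))
      rw [pow_succ (ρ) k, MulAut.mul_apply, pow_succ l⁻¹ k,
        ← mul_assoc l, mul_comm l (l⁻¹ ^ k * l⁻¹), mul_assoc (l⁻¹ ^ k),
        inv_mul_cancel₀ hl0, mul_one]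
    show ∑ k ∈ Finset.range m, term k (ρ y) = l * _
    rw [Finset.sum_congr rfl fun k _ => hshift k, ← Finset.mul_sum]
    congr 1
    have e : term m y = term 0 y := by
      show l⁻¹ ^ m * v0 ((ρ ^ m) y) = l⁻¹ ^ 0 * v0 ((ρ ^ 0) y)
      rw [inv_pow, hlm, inv_one, hρ, pow_zero, pow_zero]
    have e1 := Finset.sum_range_succ (fun k => term k y) m
    rw [Finset.sum_range_succ', e] at e1
    exact add_right_cancel e1
  have hvd : ∀ d ∈ h.D, v d = s0 d := fun d hd => by
    have hpow : ∀ k, (ρ ^ k) d ∈ h.D ∧ s0 ((ρ ^ k) d) = l ^ k * s0 d := fun k => by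
      have e : ∀ j, delta α ((ρ ^ j) d) = (ρ ^ j) (delta α d) := fun j => by
        simp [delta, h.comm_pow]
      refine ⟨by rw [h.mem_D, e]; exact h.pow_mem_Fix hd k, ?_⟩
      show γ (delta α ((ρ ^ k) d)) = _
      rw [e, hγρk k _ hd]
    have hterm : ∀ k, term k d = s0 d := fun k => by
      show l⁻¹ ^ k * v0 _ = _
      rw [hv0d _ (hpow k).1, (hpow k).2, ← mul_assoc, ← mul_pow, inv_mul_cancel₀ hl0, one_pow, one_mul]
    show ∑ k ∈ Finset.range m, term k d = _
    rw [Finset.sum_congr rfl fun k _ => hterm k, Finset.sum_const, Finset.card_range, nsmul_eq_mul]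
    have hodd : Odd m := by
      rw [hm]
      exact Nat.Even.sub_odd (by omega) (Nat.even_pow.2 ⟨even_two, by have := h.two_le; omega⟩) odd_one
    obtain ⟨j, hj⟩ := hodd
    rw [hj]
    push_cast
    rw [CharTwo.two_eq_zero]
    ring
  have huρ : ∀ y, u (ρ y) = l * u y := fun y => by
    show γ (delta α (delta α (ρ y))) = _
    rw [h.delta_rho, h.delta_rho, hγρ _ (hdD y)]
  -- the kernel of `v`
  let Sv : Subgroup Q :=
    { carrier := {y | v y = 0}
      one_mem' := by
        have := hvm 1 1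
        rw [one_mul] at this
        exact left_eq_add.mp this
      mul_mem' := fun {a b} ha hb => by
        show v (a * b) = 0
        rw [hvm, ha, hb, add_zero]
      inv_mem' := fun {a} ha => by
        have := hvm a⁻¹ a
        rw [inv_mul_cancel, ha, add_zero] at this
        have e1 := hvm 1 1
        rw [one_mul] at e1
        show v a⁻¹ = 0
        rw [← this]; exact left_eq_add.mp e1 }
  have hsplit : ∀ y, ∃ s d, y = s * d ∧ d ∈ h.D ∧ v s = 0 ∧ s0 d = v y ∧ u s = u y := fun y => by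
    obtain ⟨d, hd, hdv⟩ := hs0s (v y)
    have e1 := hvm (y * d⁻¹) d
    rw [inv_mul_cancel_right, hvd d hd, hdv] at e1
    have e2 := hum (y * d⁻¹) d
    rw [inv_mul_cancel_right, (hu0 d).2 hd, add_zero] at e2
    exact ⟨y * d⁻¹, d, (inv_mul_cancel_right y d).symm, hd, right_eq_add.mp e1, hdv, e2.symm⟩
  have hρSv : ∀ x ∈ Sv, ρ x ∈ Sv := fun x hx => by
    show v (ρ x) = 0
    rw [hvρ, show v x = 0 from hx, mul_zero]
  let e3 : Q →* Q :=
    { toFun := fun y => delta α (delta α y)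
      map_one' := by simp [delta]
      map_mul' := fun y z => by
        have e : delta α (y * z) = delta α y * cm (delta α y) z * delta α z := by simp [delta, cm, mul_assoc]
        rw [e, h.delta_mul (show delta α y * cm (delta α y) z ∈ h.D from mul_mem (hdD y) (h.Fix_le_D (hc _ _))),
          h.delta_mul (hdD y), h.delta_eq_one.2 (hc _ _), mul_one] }
  have hus : ∀ c : K, ∃ s, v s = 0 ∧ u s = c := by
    intro c
    obtain ⟨x, hx, rfl⟩ := hγs c
    have hr : e3.range = Fix α := h.range_eq ρ e3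
      (fun g => by show delta α (delta α (ρ g)) = _; rw [h.delta_rho, h.delta_rho]; rfl)
      (fun g => hdD g) ⟨y0, fun e => hy0 (h.delta_eq_one.1 e)⟩
    obtain ⟨y, hy⟩ := hr.ge hx
    obtain ⟨s, d, -, -, hs, -, hsu⟩ := hsplit y
    exact ⟨s, hs, hsu.trans (congrArg γ hy)⟩
  have hScomm : ∀ a ∈ Sv, ∀ b ∈ Sv, cm a b = 1 := by
    have hr : (e3.comp Sv.subtype).range = Fix α := by
      refine le_antisymm (by rintro _ ⟨a, rfl⟩; exact hdD a.1) fun x hx => ?_
      obtain ⟨s, hs, hsu⟩ := hus (γ x)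
      refine ⟨⟨s, hs⟩, ?_⟩
      have e := hγm _ _ (hdD s) (inv_mem hx)
      rw [show γ (delta α (delta α s)) = γ x from hsu, ← hγm _ _ hx (inv_mem hx), mul_inv_cancel, hγ1] at e
      exact mul_inv_eq_one.1 (hγi _ (mul_mem (hdD s) (inv_mem hx)) e)
    intro a ha b hb
    refine h.alt_trivial (restrict ρ Sv hρSv) (e3.comp Sv.subtype) hr (fun a => ?_)
      (fun a b => cm (a : Q) b) (fun a b => hc _ _)
      (fun a a' b => h.cm_mul_left' (hc _ _) a'.1) (fun a b b' => h.cm_mul_right' (hc _ _) b'.1)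
      (fun a b e => ?_) (fun a b => (map_cm ρ a.1 b.1).symm) (fun a => cm_self _) ⟨a, ha⟩ ⟨b, hb⟩
    · show delta α (delta α (ρ a.1)) = ρ (delta α (delta α a.1))
      rw [h.delta_rho, h.delta_rho]
    · have haD : (a : Q) ∈ h.D := h.delta_eq_one.1 e
      have haC : (a : Q) ∈ Fix α := (hs00 _ haD).1 (by rw [← hvd _ haD]; exact a.2)
      exact ⟨h.cm_fix_left haC _, h.cm_fix_right haC _⟩
  -- lifts
  choose sS hsS husS using hus
  choose sD hsD hsDs using hs0s
  have hcls : ∀ s s', v s = 0 → v s' = 0 → u s = u s' → s⁻¹ * s' ∈ Fix α := fun s s' h1 h2 h3 => by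
    have hm' : s⁻¹ * s' ∈ Sv := mul_mem (inv_mem h1) h2
    have e := hum s (s⁻¹ * s')
    rw [mul_inv_cancel_left, h3] at e
    have hd := (hu0 _).1 (left_eq_add.mp e)
    exact (hs00 _ hd).1 (by rw [← hvd _ hd]; exact hm')
  have hcld : ∀ d d', d ∈ h.D → d' ∈ h.D → s0 d = s0 d' → d⁻¹ * d' ∈ Fix α := fun d d' h1 h2 h3 => by
    have e := hs0m d (d⁻¹ * d') h1 (mul_mem (inv_mem h1) h2)
    rw [mul_inv_cancel_left, h3] at e
    exact (hs00 _ (mul_mem (inv_mem h1) h2)).1 (left_eq_add.mp e)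
  have hsqC : ∀ y c, c ∈ Fix α → y * c * (y * c) = y * y := fun y c hc' => by
    calc y * c * (y * c) = y * (c * y) * c := by simp [mul_assoc]
      _ = y * (y * c) * c := by rw [← h.central hc' y]
      _ = y * y * (c * c) := by simp [mul_assoc]
      _ = y * y := by rw [h.sq_one _ hc', mul_one]
  have hsq2 : ∀ a b : Q, a * b * (a * b) = a * a * (b * b) * cm b a := fun a b => by
    rw [sq_prod, mul_assoc b (cm b a) b, ← h.central (hc b a) b, ← mul_assoc b b, ← mul_assoc]
  let Sq : K → K := fun c => γ (sS c * sS c)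
  let Dq : K → K := fun c => γ (sD c * sD c)
  let B : K → K → K := fun c e => γ (cm (sS c) (sD e))
  have hSq : ∀ s, v s = 0 → γ (s * s) = Sq (u s) := fun s hs => by
    have e := hcls (sS (u s)) s (hsS _) hs (husS _)
    conv_lhs => rw [← mul_inv_cancel_left (sS (u s)) s, hsqC _ _ e]
  have hDq : ∀ d, d ∈ h.D → γ (d * d) = Dq (s0 d) := fun d hd => by
    have e := hcld (sD (s0 d)) d (hsD _) hd (hsDs _)
    conv_lhs => rw [← mul_inv_cancel_left (sD (s0 d)) d, hsqC _ _ e]
  have hB : ∀ s d, v s = 0 → d ∈ h.D → γ (cm s d) = B (u s) (s0 d) := fun s d hs hd => by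
    have e := hcls (sS (u s)) s (hsS _) hs (husS _)
    have e' := hcld (sD (s0 d)) d (hsD _) hd (hsDs _)
    rw [← mul_inv_cancel_left (sS (u s)) s, h.cm_mul_fix_left e, ← mul_inv_cancel_left (sD (s0 d)) d,
      h.cm_mul_fix_right e']
    simp only [mul_inv_cancel_left]
    rfl
  have hSql : ∀ x, Sq x = Sq 1 * x := hlin Sq (fun x y => by
      have hm' : v (sS x * sS y) = 0 := by rw [hvm, hsS, hsS, add_zero]
      have hu' : u (sS x * sS y) = x + y := by rw [hum, husS, husS]
      have e := hSq _ hm'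
      rw [hu', hsq2, hScomm _ (hsS y) _ (hsS x), mul_one, hγm _ _ (hS.sq _) (hS.sq _)] at e
      exact e.symm)
    (fun x => by
      have e := hSq _ (hρSv _ (hsS x))
      rw [huρ, husS, ← map_mul, hγρ _ (hS.sq _)] at e
      exact e.symm)
  have hs0ρ : ∀ y ∈ h.D, s0 (ρ y) = l * s0 y := fun y hy => by
    show γ (delta α (ρ y)) = _
    rw [h.delta_rho, hγρ _ hy]
  have hDql : ∀ x, Dq x = Dq 1 * x := hlin Dq (fun x y => by
      have e := hDq _ (mul_mem (hsD x) (hsD y))
      rw [hs0m _ _ (hsD x) (hsD y), hsDs, hsDs, hsq2, h.D_comm (hsD y) (hsD x), mul_one,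
        hγm _ _ (hS.sq _) (hS.sq _)] at e
      exact e.symm)
    (fun x => by
      have e := hDq _ (h.rho_mem_D (hsD x))
      rw [hs0ρ _ (hsD x), hsDs, ← map_mul, hγρ _ (hS.sq _)] at e
      exact e.symm)
  have hBl : ∀ x z y, B (x + z) y = B x y + B z y := fun x z y => by
    have hm' : v (sS x * sS z) = 0 := by rw [hvm, hsS, hsS, add_zero]
    have e := hB _ (sD y) hm' (hsD y)
    rw [hum, husS, husS, hsDs, h.cm_mul_left' (hc _ _), hγm _ _ (hc _ _) (hc _ _)] at e
    exact e.symm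
  have hBr : ∀ x y z, B x (y + z) = B x y + B x z := fun x y z => by
    have e := hB (sS x) _ (hsS x) (mul_mem (hsD y) (hsD z))
    rw [hs0m _ _ (hsD y) (hsD z), husS, hsDs, hsDs, h.cm_mul_right' (hc _ _), hγm _ _ (hc _ _) (hc _ _)] at e
    exact e.symm
  have hBρ : ∀ x y, B (l * x) (l * y) = l * B x y := fun x y => by
    have e := hB _ _ (hρSv _ (hsS x)) (h.rho_mem_D (hsD y))
    rw [huρ, husS, hs0ρ _ (hsD y), hsDs, ← map_cm, hγρ _ (hc _ _)] at e
    exact e.symm
  have hBs : ∀ μ x y, μ ≠ 0 → B (μ * x) (μ * y) = μ * B x y := by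
    intro μ x y hμ
    obtain ⟨k, rfl⟩ := hgen μ hμ
    clear hμ
    induction k generalizing x y with
    | zero => simp
    | succ k ih => rw [pow_succ, mul_assoc, mul_assoc, ih, hBρ, ← mul_assoc]
  have hB2 := sq_biadd B hBl hBr hBs
  set b : K := B 1 1 with hb
  have hb0 : b ≠ 0 := fun e => by
    refine hS.nondeg (sS 1) (sD 1) (fun hm' => ?_) (hsD 1) (fun hm' => ?_) (hγi _ (hc _ _) e)
    · have := (hu0 _).2 hm'
      rw [husS] at this
      exact one_ne_zero this
    · have := (hs00 _ (hsD 1)).2 hm'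
      rw [hsDs] at this
      exact one_ne_zero this
  -- invariance of squares under `α`
  have hDb : Dq 1 = b := by
    have e := mem_Fix.1 (hS.sq (sS 1))
    rw [map_mul, apply_eq α (sS 1), hsq2, mul_assoc] at e
    have e1 : γ (delta α (sS 1) * delta α (sS 1) * cm (delta α (sS 1)) (sS 1)) = 0 := by
      rw [mul_eq_left.1 e, hγ1]
    have hcm : cm (delta α (sS 1)) (sS 1) = cm (sS 1) (delta α (sS 1)) := by
      rw [← h.inv_fix (hc (sS 1) (delta α (sS 1)))]
      simp [cm, mul_assoc]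
    rw [hcm, hγm _ _ (hS.sq _) (hc _ _), hDq _ (hdD _), hB _ _ (hsS 1) (hdD _),
      show s0 (delta α (sS 1)) = u (sS 1) from rfl, husS] at e1
    exact CharTwo.add_eq_zero.1 e1
  -- the square roots
  let F : K ≃+* K := frobeniusEquiv K 2
  have hF : ∀ x, F.symm x ^ 2 = x := fun x => frobeniusEquiv_symm_pow_p K 2 x
  refine ⟨K, inferInstance, inferInstance, inferInstance, hK, Sq 1 / b, ⟨?_⟩⟩
  exact
    { f := fun y => (F.symm (u y), F.symm (v y))
      f_mul := fun x y => by simp [hum, hvm]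
      f_surj := fun ⟨U, V⟩ => by
        refine ⟨sS (F U) * sD (F V), ?_⟩
        simp only [hum, hvm, husS, hsS, (hu0 _).2 (hsD _), hvd _ (hsD _), hsDs, add_zero, zero_add,
          RingEquiv.symm_apply_apply]
      g := fun y => γ y / b
      g_mul := fun x y hx hy => by
        simp only [Prod.mk_eq_zero, EmbeddingLike.map_eq_zero_iff] at hx hy
        have hxD := (hu0 x).1 hx.1
        have hyD := (hu0 y).1 hy.1
        rw [hγm x y ((hs00 x hxD).1 ((hvd x hxD).symm.trans hx.2)) ((hs00 y hyD).1 ((hvd y hyD).symm.trans hy.2)),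
          add_div]
      g_inj := fun x hx e => by
        simp only [Prod.mk_eq_zero, EmbeddingLike.map_eq_zero_iff] at hx
        have hxD := (hu0 x).1 hx.1
        exact hγi x ((hs00 x hxD).1 ((hvd x hxD).symm.trans hx.2)) ((div_eq_zero_iff.1 e).resolve_right hb0)
      g_surj := fun c => by
        obtain ⟨x, hx, hxc⟩ := hγs (c * b)
        refine ⟨x, ?_, by rw [hxc, mul_div_cancel_right₀ _ hb0]⟩
        have hxD := h.Fix_le_D hx
        simp [(hu0 x).2 hxD, hvd x hxD, (hs00 x hxD).2 hx]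
      central := fun x hx y => by
        simp only [Prod.mk_eq_zero, EmbeddingLike.map_eq_zero_iff] at hx
        have hxD := (hu0 x).1 hx.1
        exact h.central ((hs00 x hxD).1 ((hvd x hxD).symm.trans hx.2)) y
      sq := fun y => by
        obtain ⟨s, d, hy, hd, hs, hdv, hsu⟩ := hsplit y
        have hcm : cm d s = cm s d := by
          rw [← h.inv_fix (hc s d)]
          simp [cm, mul_assoc]
        have e : γ (y * y) = Sq 1 * u y + b * v y + B (u y) (v y) := by
          rw [hy, hsq2, hγm _ _ (mul_mem (hS.sq _) (hS.sq _)) (hc _ _), hγm _ _ (hS.sq _) (hS.sq _), hcm,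
            hSq _ hs, hDq _ hd, hB _ _ hs hd, hSql, hDql, hDb, ← hy, hsu, hdv]
        have hBuv : B (u y) (v y) = b * (F.symm (u y) * F.symm (v y)) := by
          refine frobenius_inj K 2 ?_
          simp only [frobenius_def, mul_pow, hF, hB2]
        show γ (y * y) / b = _
        rw [e, hBuv, hF, hF]
        field_simp
        ring }

end Cfsg.Agent.FixedTransitive
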