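import Cfsg.Agent.Lib.GL.Basic
import Cfsg.Agent.Lib.Fusion.UniTri
import Cfsg.Agent.Lib.FixedTransitive.Criterion

/-!
A Sylow 2-subgroup of `PSL₃(q)`, `q` even, as an extension with square map `a U ^ 2 + U V + V ^ 2`
when `t ^ 2 + t = a`.
-/

set_option autoImplicit false
set_option linter.unusedSectionVars false
set_option linter.style.haveILetI false

namespace Cfsg.Agent.FixedTransitive.Linear

open Matrix

variable {K : Type} [Field K] [Fintype K]

/-- The unitriangular matrix. -/
def um (p : K × K × K) : Matrix.SpecialLinearGroup (Fin 3) K :=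
  ⟨!![1, p.1, p.2.2; 0, 1, p.2.1; 0, 0, 1], by rw [det_fin_three]; simp⟩

theorem um_mul (p q : K × K × K) :
    um p * um q = um (p.1 + q.1, p.2.1 + q.2.1, p.2.2 + q.2.2 + p.1 * q.2.1) := by
  refine Subtype.ext ?_
  show !![1, p.1, p.2.2; 0, 1, p.2.1; 0, 0, 1] * !![1, q.1, q.2.2; 0, 1, q.2.1; 0, 0, 1] = _
  ext i j
  fin_cases i <;> fin_cases j <;> simp [um, Matrix.mul_apply, Fin.sum_univ_three] <;> ring

theorem um_zero : um ((0, 0, 0) : K × K × K) = 1 := by
  refine Subtype.ext ?_
  show !![1, (0 : K), 0; 0, 1, 0; 0, 0, 1] = 1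
  exact Matrix.one_fin_three.symm

/-- The element of `PSL₃`. -/
def u (p : K × K × K) : Matrix.ProjectiveSpecialLinearGroup (Fin 3) K := QuotientGroup.mk' _ (um p)

theorem u_mul (p q : K × K × K) :
    u p * u q = u (p.1 + q.1, p.2.1 + q.2.1, p.2.2 + q.2.2 + p.1 * q.2.1) := by
  rw [u, u, u, ← map_mul, um_mul]

theorem u_injective : Function.Injective (u (K := K)) := by
  intro p q h
  obtain ⟨z, hz, e⟩ := (QuotientGroup.mk'_eq_mk' _).1 h
  obtain ⟨r, -, hr⟩ := Matrix.SpecialLinearGroup.mem_center_iff.mp hz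
  have e' : ∀ i j, (um p * z : Matrix.SpecialLinearGroup (Fin 3) K).1 i j = (um q).1 i j := fun i j => by rw [e]
  simp only [Matrix.SpecialLinearGroup.coe_mul, ← hr] at e'
  have h00 := e' 0 0
  have h01 := e' 0 1
  have h02 := e' 0 2
  have h12 := e' 1 2
  simp [um, Matrix.mul_apply, Fin.sum_univ_three] at h00 h01 h02 h12
  subst h00
  simp at h01 h02 h12
  exact Prod.ext h01 (Prod.ext h12 h02)

/-- The subgroup. -/
def U (K : Type) [Field K] [Fintype K] : Subgroup (Matrix.ProjectiveSpecialLinearGroup (Fin 3) K) :=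
  let M : Submonoid (Matrix.ProjectiveSpecialLinearGroup (Fin 3) K) :=
    { carrier := Set.range u
      one_mem' := ⟨(0, 0, 0), by rw [u, um_zero, map_one]⟩
      mul_mem' := by rintro _ _ ⟨p, rfl⟩ ⟨q, rfl⟩; exact ⟨_, (u_mul p q).symm⟩ }
  { toSubmonoid := M
    inv_mem' := fun {_} hx => by
      haveI : Finite (Matrix.ProjectiveSpecialLinearGroup (Fin 3) K) := inferInstance
      exact Fusion.UniTri.inv_mem_of_finite M hx }

/-- The parametrisation. -/
noncomputable def par : K × K × K ≃ U K :=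
  Equiv.ofBijective (fun p => ⟨u p, ⟨p, rfl⟩⟩)
    ⟨fun _ _ h => u_injective (congrArg Subtype.val h), fun ⟨_, p, e⟩ => ⟨p, Subtype.ext e⟩⟩

theorem par_mul (p q : K × K × K) :
    par p * par q = par (p.1 + q.1, p.2.1 + q.2.1, p.2.2 + q.2.2 + p.1 * q.2.1) :=
  Subtype.ext (u_mul p q)

theorem exists_sylow {n : ℕ} (hn : 2 ≤ n) (hK : Fintype.card K = 2 ^ n) :
    ∃ S : Sylow 2 (Matrix.ProjectiveSpecialLinearGroup (Fin 3) K),
      (S : Subgroup (Matrix.ProjectiveSpecialLinearGroup (Fin 3) K)) = U K := by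
  haveI : Fact (Nat.Prime 2) := ⟨Nat.prime_two⟩
  have hq : 4 ≤ 2 ^ n := le_trans (by norm_num) (Nat.pow_le_pow_right (by norm_num : 0 < 2) hn)
  have hqe : 2 ∣ 2 ^ n := dvd_pow_self 2 (by omega)
  have hU : Nat.card (U K) = 2 ^ (3 * n) := by
    rw [← Nat.card_congr (par (K := K)), Nat.card_prod, Nat.card_prod, Nat.card_eq_fintype_card, hK,
      ← pow_add, ← pow_add]
    congr 1; omega
  have e := GL.gcd_mul_card_PSL (F := K) 3 (by norm_num)
  rw [GL.card_SL_prod, hK, show Finset.Ico 2 (3 + 1) = ({2, 3} : Finset ℕ) from rfl] at e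
  rw [Finset.prod_insert (by norm_num), Finset.prod_singleton, show 3 * (3 - 1) / 2 = 3 by norm_num,
    ← pow_mul 2 n 3, mul_comm n 3] at e
  have hg : ¬ 2 ∣ Nat.gcd 3 (2 ^ n - 1) := fun h => by
    have := h.trans (Nat.gcd_dvd_left _ _); omega
  have hodd : ∀ k, k ≠ 0 → ¬ 2 ∣ (2 ^ n) ^ k - 1 := fun k hk h => by
    have := dvd_pow hqe hk
    have : 1 ≤ (2 ^ n) ^ k := Nat.one_le_pow _ _ (by omega)
    omega
  have hR : ¬ 2 ∣ ((2 ^ n) ^ 2 - 1) * ((2 ^ n) ^ 3 - 1) := by
    rw [Nat.prime_two.dvd_mul]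
    rintro (h | h)
    · exact hodd 2 (by norm_num) h
    · exact hodd 3 (by norm_num) h
  rw [← pow_mul 2 n 3, mul_comm n 3] at hR
  have hfac : (Nat.card (Matrix.ProjectiveSpecialLinearGroup (Fin 3) K)).factorization 2 = 3 * n := by
    have h1 : Nat.factorization _ 2 = Nat.factorization _ 2 := congrArg (fun m => Nat.factorization m 2) e
    rw [Nat.factorization_mul (fun e0 => hg (by simp [e0])) Nat.card_pos.ne',
      Nat.factorization_mul (by positivity) (fun e0 => hR (by simp [e0])), Finsupp.add_apply, Finsupp.add_apply,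
      Nat.factorization_eq_zero_of_not_dvd hg, Nat.factorization_eq_zero_of_not_dvd hR,
      Nat.Prime.factorization_pow Nat.prime_two, Finsupp.single_eq_same] at h1
    omega
  exact ⟨Sylow.ofCard (U K) (by rw [hU, hfac]), rfl⟩

/-- The extension structure. -/
theorem sqExt [CharP K 2] {a t : K} (ht : t ^ 2 + t = a) :
    Nonempty (SqExt (U K) (K × K) K (fun p => a * p.1 ^ 2 + p.1 * p.2 + p.2 ^ 2)) := by
  have h2 : (2 : K) = 0 := CharTwo.two_eq_zero
  have hpar : ∀ x : U K, par ((par (K := K)).symm x) = x := Equiv.apply_symm_apply _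
  let f : U K → K × K := fun x =>
    ((par.symm x).1 + (par.symm x).2.1, (par.symm x).1 + t * ((par.symm x).1 + (par.symm x).2.1))
  have hsymm : ∀ x y : U K, par.symm (x * y) = ((par.symm x).1 + (par.symm y).1,
      (par.symm x).2.1 + (par.symm y).2.1,
      (par.symm x).2.2 + (par.symm y).2.2 + (par.symm x).1 * (par.symm y).2.1) := fun x y => by
    rw [Equiv.symm_apply_eq, ← par_mul, hpar, hpar]
  have hf0 : ∀ x : U K, f x = 0 → (par.symm x).1 = 0 ∧ (par.symm x).2.1 = 0 := fun x hx => by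
    have hU' : (par.symm x).1 + (par.symm x).2.1 = 0 := congrArg Prod.fst hx
    have hV : (par.symm x).1 + t * ((par.symm x).1 + (par.symm x).2.1) = 0 := congrArg Prod.snd hx
    rw [hU', mul_zero, add_zero] at hV
    rw [hV, zero_add] at hU'
    exact ⟨hV, hU'⟩
  exact ⟨
    { f := f
      f_mul := fun x y => by
        show (_, _) = ((_ : K) + _, (_ : K) + _)
        rw [hsymm]
        refine Prod.ext ?_ ?_ <;> ring
      f_surj := fun ⟨U', V'⟩ => by
        refine ⟨par (V' + t * U', V' + t * U' + U', 0), ?_⟩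
        show (_, _) = _
        rw [Equiv.symm_apply_apply]
        refine Prod.ext ?_ ?_
        · linear_combination (V' + t * U') * h2
        · linear_combination (t * U' + t * V' + t ^ 2 * U') * h2
      g := fun x => (par.symm x).2.2
      g_mul := fun x y hx hy => by
        rw [hsymm, (hf0 x hx).1, zero_mul, add_zero]
      g_inj := fun x hx hg => by
        rw [← hpar x, show par.symm x = (0, 0, 0) from Prod.ext (hf0 x hx).1 (Prod.ext (hf0 x hx).2 hg)]
        exact Subtype.ext (by show u _ = 1; rw [u, um_zero, map_one])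
      g_surj := fun w => by
        refine ⟨par (0, 0, w), ?_, by rw [Equiv.symm_apply_apply]⟩
        show (_, _) = _
        rw [Equiv.symm_apply_apply]
        simp
      central := fun x hx y => by
        refine par.symm.injective ?_
        rw [hsymm, hsymm, (hf0 x hx).1, (hf0 x hx).2]
        simp [add_comm]
      sq := fun y => by
        obtain ⟨⟨A, B, C⟩, rfl⟩ := (par (K := K)).surjective y
        simp only [hsymm, Equiv.symm_apply_apply, f]
        rw [← ht]
        linear_combination (C - A ^ 2 - t * (A + B) ^ 2 - t * A * (A + B) - t ^ 2 * (A + B) ^ 2) * h2 }⟩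

end Cfsg.Agent.FixedTransitive.Linear
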