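import Cfsg.Agent.Lib.FixedTransitive.Delta

/-!
The structure theorem: such a 2-group is abelian, or has order `q ^ 3`, squares among the fixed points
and a non-degenerate pairing with `D`.
-/

set_option autoImplicit false
set_option linter.unusedSectionVars false
set_option linter.style.haveILetI false

namespace Cfsg.Agent.FixedTransitive

universe u

variable {Q : Type u} [Group Q]

/-- The conclusion in the non-abelian case. -/
structure Shape (α : MulAut Q) (n : ℕ) : Prop where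
  card : Nat.card Q = 2 ^ n * 2 ^ n * 2 ^ n
  sq : ∀ y, y * y ∈ Fix α
  nondeg : ∀ y d, delta α y ∉ Fix α → delta α d ∈ Fix α → d ∉ Fix α → cm y d ≠ 1

variable [Finite Q]

namespace Setting

variable {α ρ : MulAut Q} {n : ℕ} (h : Setting α ρ n)
include h

/-- The image of `delta` centralises `D` when `D` is central modulo the fixed points. -/
theorem cm_delta {y d : Q} (hd : d ∈ h.D) (hy : cm y d ∈ Fix α) :
    cm (delta α y) d = 1 := by
  have e := mem_Fix.1 hy
  rw [map_cm, apply_eq α y, apply_eq α d, h.cm_mul_fix_right hd, h.cm_mul_left' hy] at e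
  exact mul_eq_left.1 e

/-- Data on the quotient by the fixed points. -/
theorem exists_quot {z : Q} (hz : z ∉ Fix α) [(Fix α).Normal] : ∃ α' ρ' : MulAut (Q ⧸ Fix α),
    (∀ x : Q, α' (x : Q ⧸ Fix α) = ((α x : Q) : Q ⧸ Fix α)) ∧
    (∀ x : Q, (x : Q ⧸ Fix α) ∈ Fix α' ↔ x ∈ h.D) ∧ Setting α' ρ' n := by
  classical
  have hmap : ∀ β : MulAut Q, (∀ x ∈ Fix α, β x ∈ Fix α) → (Fix α).map β.toMonoidHom = Fix α := by
    intro β hβ
    refine Subgroup.eq_of_le_of_card_ge (by rintro _ ⟨x, hx, rfl⟩; exact hβ x hx) ?_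
    exact (Subgroup.card_map_of_injective β.injective).ge
  set α' : MulAut (Q ⧸ Fix α) := QuotientGroup.congr _ _ α (hmap α fun x hx => by rw [mem_Fix.1 hx]; exact hx)
  set ρ' : MulAut (Q ⧸ Fix α) := QuotientGroup.congr _ _ ρ (hmap ρ fun x hx => h.rho_mem_Fix hx)
  have hα' : ∀ x : Q, α' (x : Q ⧸ Fix α) = ((α x : Q) : Q ⧸ Fix α) := fun x => rfl
  have hρ' : ∀ x : Q, ρ' (x : Q ⧸ Fix α) = ((ρ x : Q) : Q ⧸ Fix α) := fun x => rfl
  have hfix : ∀ x : Q, (x : Q ⧸ Fix α) ∈ Fix α' ↔ x ∈ h.D := fun x => by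
    rw [mem_Fix, hα', eq_comm, QuotientGroup.eq]
    rfl
  refine ⟨α', ρ', hα', hfix, ⟨h.two_le, h.two.to_quotient _, fun x => ?_, fun x => ?_, ?_, fun x hx => ?_,
    fun x y hx hy hx1 hy1 => ?_⟩⟩
  · obtain ⟨x, rfl⟩ := QuotientGroup.mk_surjective x
    rw [hα', hα', h.invol]
  · obtain ⟨x, rfl⟩ := QuotientGroup.mk_surjective x
    rw [hρ', hα', hα', hρ', h.comm]
  · show Nat.card (Fix α') = 2 ^ n
    have e : Fix α' = h.D.map (QuotientGroup.mk' (Fix α)) := by
      ext x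
      obtain ⟨x, rfl⟩ := QuotientGroup.mk_surjective x
      rw [hfix]
      refine ⟨fun hx => ⟨x, hx, rfl⟩, ?_⟩
      rintro ⟨w, hw, he⟩
      rw [← hfix, ← show (w : Q ⧸ Fix α) = x from he, hfix]
      exact hw
    have hc := Subgroup.card_eq_card_quotient_mul_card_subgroup ((Fix α).subgroupOf h.D)
    rw [Nat.card_congr (Subgroup.subgroupOfEquivOfLe h.Fix_le_D).toEquiv, h.card_Fix, h.card_D hz] at hc
    let g := (QuotientGroup.mk' (Fix α)).subgroupMap h.D
    have hg : g.ker = (Fix α).subgroupOf h.D := by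
      ext w
      rw [MonoidHom.mem_ker, Subgroup.mem_subgroupOf]
      exact ⟨fun e1 => (QuotientGroup.eq_one_iff _).1 (congrArg Subtype.val e1),
        fun e1 => Subtype.ext ((QuotientGroup.eq_one_iff _).2 e1)⟩
    have hgs : g.range = ⊤ := MonoidHom.range_eq_top.2 (MonoidHom.subgroupMap_surjective _ _)
    have hi := Subgroup.index_ker g
    rw [hg, hgs, Subgroup.card_top] at hi
    rw [e, ← hi, Subgroup.index]
    exact (Nat.eq_of_mul_eq_mul_right (by positivity) hc).symm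
  · obtain ⟨x, rfl⟩ := QuotientGroup.mk_surjective x
    exact (QuotientGroup.eq_one_iff (x * x)).2 (h.sq_D ((hfix x).1 hx))
  · obtain ⟨x, rfl⟩ := QuotientGroup.mk_surjective x
    obtain ⟨y, rfl⟩ := QuotientGroup.mk_surjective y
    have hxD := (hfix x).1 hx
    have hyD := (hfix y).1 hy
    have hx2 : delta α x ≠ 1 := fun e => hx1 ((QuotientGroup.eq_one_iff x).2 (h.delta_eq_one.1 e))
    have hy2 : delta α y ≠ 1 := fun e => hy1 ((QuotientGroup.eq_one_iff y).2 (h.delta_eq_one.1 e))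
    obtain ⟨k, hk⟩ := h.trans _ _ hxD hyD hx2 hy2
    refine ⟨k, ?_⟩
    have hpow : ∀ j : ℕ, (ρ' ^ j) (x : Q ⧸ Fix α) = (((ρ ^ j) x : Q) : Q ⧸ Fix α) ∧ (ρ ^ j) x ∈ h.D ∧
        delta α ((ρ ^ j) x) = (ρ ^ j) (delta α x) := by
      intro j
      induction j with
      | zero => exact ⟨rfl, hxD, rfl⟩
      | succ j ih =>
        simp only [pow_succ', MulAut.mul_apply, ih.1, hρ', h.delta_rho, ih.2.2, true_and, and_true]
        exact h.rho_mem_D ih.2.1
    obtain ⟨h1, h2, h3⟩ := hpow k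
    rw [h1, QuotientGroup.eq]
    refine h.delta_eq_one.1 ?_
    have := h.delta_mul h2 (((ρ ^ k) x)⁻¹ * y)
    rw [mul_inv_cancel_left, h3, hk] at this
    exact left_eq_mul.1 this

omit h in
theorem mul_comm_of_cm (hc : ∀ a b : Q, cm a b = 1) (a b : Q) : a * b = b * a := cm_eq_one.1 (hc a b)

/-- If the quotient by the fixed points has the shape, contradiction. -/
theorem shape_quot_false [(Fix α).Normal] {α' : MulAut (Q ⧸ Fix α)} {ρ' : MulAut (Q ⧸ Fix α)}
    (hα' : ∀ x : Q, α' (x : Q ⧸ Fix α) = ((α x : Q) : Q ⧸ Fix α))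
    (hfix : ∀ x : Q, (x : Q ⧸ Fix α) ∈ Fix α' ↔ x ∈ h.D) (hs : Setting α' ρ' n) (hS : Shape α' n) : False := by
  classical
  have hsq : ∀ y : Q, y * y ∈ h.D := fun y => (hfix _).1 (hS.sq (y : Q ⧸ Fix α))
  have hcmD : ∀ y d : Q, d ∈ h.D → cm y d ∈ Fix α := fun y d hd =>
    (QuotientGroup.eq_one_iff _).1 ((map_cm (QuotientGroup.mk' (Fix α)) y d).trans
      (hs.cm_fix_right ((hfix d).2 hd) _))
  have hdl : ∀ y : Q, ((delta α y : Q) : Q ⧸ Fix α) = delta α' (y : Q ⧸ Fix α) := fun y => by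
    rw [delta, delta, hα']; rfl
  have hD2 : ∀ y : Q, (y : Q ⧸ Fix α) ∈ hs.D ↔ delta α y ∈ h.D := fun y => by
    rw [hs.mem_D, ← hdl, hfix]
  haveI := hs.normal
  -- `R / C'` is elementary abelian
  let mk' : (Q ⧸ Fix α) →* (Q ⧸ Fix α) ⧸ Fix α' := QuotientGroup.mk' (Fix α')
  have hex : ∀ a : (Q ⧸ Fix α) ⧸ Fix α', a * a = 1 := fun a => by
    obtain ⟨a, rfl⟩ := QuotientGroup.mk_surjective a
    exact (QuotientGroup.eq_one_iff _).2 (hS.sq a)
  letI : CommGroup ((Q ⧸ Fix α) ⧸ Fix α') :=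
    { (inferInstance : Group ((Q ⧸ Fix α) ⧸ Fix α')) with
      mul_comm := fun a b => by
        rw [← inv_eq_of_mul_eq_one_right (hex (a * b)), mul_inv_rev, inv_eq_of_mul_eq_one_right (hex a),
          inv_eq_of_mul_eq_one_right (hex b)] }
  -- every element of `hs.D` is a `delta` modulo `Fix α'`
  let ψ : (Q ⧸ Fix α) →* (Q ⧸ Fix α) ⧸ Fix α' := mk' * mk'.comp α'.toMonoidHom
  have hψ : ∀ r, ψ r = mk' (delta α' r) := fun r => by
    show mk' r * mk' (α' r) = _
    rw [delta, map_mul, map_inv, inv_eq_of_mul_eq_one_right (hex _)]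
  have hdD : ∀ r, delta α' r ∈ hs.D := fun r => by
    rw [hs.mem_D]
    have e : delta α' (delta α' r) = (delta α' r * delta α' r)⁻¹ := by simp [delta, hs.invol, mul_assoc]
    rw [e]
    exact inv_mem (hS.sq _)
  obtain ⟨r0, hr0⟩ : ∃ r, r ∉ hs.D := by
    by_contra hc
    push Not at hc
    obtain ⟨w, hw⟩ : ∃ w, w ∉ Fix α' := by
      by_contra hc'
      push Not at hc'
      have e1 := hs.card_Fix
      rw [Nat.card_congr (Equiv.subtypeUnivEquiv hc'), hS.card] at e1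
      have : 2 ^ 2 ≤ 2 ^ n := Nat.pow_le_pow_right (by norm_num) h.two_le
      nlinarith
    have e1 := hs.card_D hw
    rw [Nat.card_congr (Equiv.subtypeUnivEquiv hc), hS.card] at e1
    have : 2 ^ 2 ≤ 2 ^ n := Nat.pow_le_pow_right (by norm_num) h.two_le
    nlinarith
  have hψD : hs.D ≤ ψ.range.comap mk' := by
    refine hs.D_le_of_stable (S := ψ.range.comap mk') ?_ ?_ (x := delta α' r0) ?_ (hdD r0) ?_
    · rintro x ⟨r, hr⟩
      refine ⟨ρ' r, ?_⟩
      rw [hψ, hs.delta_rho]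
      rw [hψ] at hr
      have e : (delta α' r)⁻¹ * x ∈ Fix α' := QuotientGroup.eq.1 hr
      refine QuotientGroup.eq.2 ?_
      rw [← map_inv, ← map_mul]
      exact hs.rho_mem_Fix e
    · intro x hx
      exact ⟨1, by rw [map_one]; exact ((QuotientGroup.eq_one_iff x).2 hx).symm⟩
    · exact ⟨r0, hψ r0⟩
    · exact hr0
  have hlift : ∀ x : Q, delta α x ∈ h.D → ∃ y : Q, (delta α y)⁻¹ * x ∈ h.D := fun x hx => by
    obtain ⟨r, hr⟩ := hψD ((hD2 x).2 hx)
    obtain ⟨y, rfl⟩ := QuotientGroup.mk_surjective r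
    rw [hψ, ← hdl] at hr
    exact ⟨y, (hfix _).1 (QuotientGroup.eq.1 hr)⟩
  have hcent : ∀ x : Q, delta α x ∈ h.D → ∀ d ∈ h.D, cm x d = 1 := fun x hx d hd => by
    obtain ⟨y, hy⟩ := hlift x hx
    have e := h.cm_mul_left' (hcmD (delta α y) d hd) ((delta α y)⁻¹ * x)
    rw [mul_inv_cancel_left, h.D_comm hy hd, mul_one,
      h.cm_delta hd (hcmD y d hd)] at e
    exact e
  let D2 : Subgroup Q := hs.D.comap (QuotientGroup.mk' (Fix α))
  have hm2 : ∀ x, x ∈ D2 ↔ delta α x ∈ h.D := hD2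
  have hDD2 : ∀ x ∈ h.D, x ∈ D2 := fun x hx => (hm2 x).2 (h.Fix_le_D hx)
  have hdm : ∀ x y : Q, delta α x ∈ h.D → y ∈ D2 → delta α (x * y) = delta α x * delta α y := fun x y hx hy => by
    have e1 := cm_eq_one.1 (hcent y ((hm2 y).1 hy) _ hx)
    have e : delta α (x * y) = y⁻¹ * delta α x * y * delta α y := by simp [delta, mul_assoc]
    rw [e, mul_assoc y⁻¹, ← e1, inv_mul_cancel_left]
  let e2 : D2 →* Q :=
    { toFun := fun x => delta α (delta α (x : Q))
      map_one' := by simp [delta]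
      map_mul' := fun x y => by
        show delta α (delta α ((x : Q) * y)) = _
        rw [hdm _ _ ((hm2 _).1 x.2) y.2]
        exact h.delta_mul ((hm2 _).1 x.2) _ }
  have hρD2 : ∀ x ∈ D2, ρ x ∈ D2 := fun x hx => (hm2 _).2 (by
    rw [h.delta_rho]; exact h.rho_mem_D ((hm2 _).1 hx))
  have he2ρ : ∀ m, e2 (restrict ρ D2 hρD2 m) = ρ (e2 m) := fun m => by
    show delta α (delta α (ρ m.1)) = ρ (delta α (delta α m.1))
    rw [h.delta_rho, h.delta_rho]
  have he2 : e2.range = Fix α := by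
    refine h.range_eq (restrict ρ D2 hρD2) e2 he2ρ (fun m => (hm2 _).1 m.2) ?_
    obtain ⟨w, hw, hwC⟩ := hs.exists_mem_D (y := r0) (fun e => hr0 (hs.Fix_le_D e))
    obtain ⟨x, rfl⟩ := QuotientGroup.mk_surjective w
    refine ⟨⟨x, hw⟩, fun e => hwC ((hfix x).2 ?_)⟩
    exact h.delta_eq_one.1 e
  have hab : ∀ a ∈ D2, ∀ b ∈ D2, cm a b = 1 := by
    have hB : ∀ a b : D2, cm (a : Q) b ∈ Fix α := fun a b =>
      (QuotientGroup.eq_one_iff _).1 ((map_cm (QuotientGroup.mk' (Fix α)) a.1 b.1).trans (hs.D_comm a.2 b.2))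
    have hker : ∀ a b : D2, e2 a = 1 → cm (a : Q) b = 1 ∧ cm (b : Q) a = 1 := fun a b e => by
      have ha : (a : Q) ∈ h.D := h.delta_eq_one.1 e
      have := hcent b ((hm2 _).1 b.2) a ha
      exact ⟨cm_eq_one.2 (cm_eq_one.1 this).symm, this⟩
    intro a ha b hb
    exact h.alt_trivial (restrict ρ D2 hρD2) e2 he2 he2ρ (fun a b => cm (a : Q) b) hB
      (fun a a' b => h.cm_mul_left' (hB a b) a'.1) (fun a b b' => h.cm_mul_right' (hB a b) b'.1)
      hker (fun a b => (map_cm ρ a.1 b.1).symm) (fun a => cm_self _) ⟨a, ha⟩ ⟨b, hb⟩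
  have hnd : ∀ y d, y ∉ D2 → d ∈ h.D → d ∉ Fix α → cm y d ≠ 1 := by
    intro y d hy hd hdC
    obtain ⟨⟨x, hx⟩, hxd⟩ := he2.ge (show delta α d ∈ Fix α from hd)
    have hxd' : delta α (delta α x) = delta α d := hxd
    have hb : delta α x ∈ h.D := (hm2 x).1 hx
    have hxD : (x : Q ⧸ Fix α) ∉ Fix α' := fun e => hdC (h.delta_eq_one.1 (by
      rw [← hxd']
      exact h.delta_eq_one.2 ((hfix x).1 e)))
    have hw : cm y x ∈ h.D := by
      refine (hfix _).1 ((QuotientGroup.eq_one_iff _).1 ?_)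
      refine Eq.trans (congrArg mk' (map_cm (QuotientGroup.mk' (Fix α)) y x)) ?_
      rw [map_cm]
      exact cm_eq_one.2 (mul_comm _ _)
    have hwC : cm y x ∉ Fix α := fun e => by
      refine hS.nondeg (y : Q ⧸ Fix α) (x : Q ⧸ Fix α) hy hx hxD ?_
      exact (map_cm (QuotientGroup.mk' (Fix α)) y x).symm.trans ((QuotientGroup.eq_one_iff _).2 e)
    have ha : delta α y ∈ D2 := by
      show ((delta α y : Q) : Q ⧸ Fix α) ∈ hs.D
      rw [hdl]; exact hdD _
    have e1 : cm y (x * delta α x) = cm y (delta α x) * cm y x := by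
      rw [cm_mul_right, mul_assoc _ (cm y x), cm_eq_one.1 (h.D_comm hw hb), inv_mul_cancel_left]
    have e2' : delta α (cm y x) = cm y (delta α x) := by
      rw [delta, map_cm, apply_eq α y, apply_eq α x, cm_mul_left,
        hab _ ha _ (mul_mem hx (hDD2 _ hb)), mul_one, e1]
      have c1 := cm_eq_one.1 (hab _ ha _ (mul_mem (hDD2 _ (h.Fix_le_D (hcmD y _ hb))) (hDD2 _ hw)))
      rw [mul_assoc _ _ (delta α y), ← c1, inv_mul_cancel_left, ← mul_assoc,
        mul_assoc, ← h.central (hcmD y _ hb), inv_mul_cancel_left]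
    intro e
    refine hwC (h.delta_eq_one.1 ?_)
    have hd' : (delta α x)⁻¹ * d ∈ Fix α := h.delta_eq_one.1 (by
      have := h.delta_mul hb ((delta α x)⁻¹ * d)
      rw [mul_inv_cancel_left, hxd'] at this
      exact left_eq_mul.1 this)
    rw [e2', ← h.cm_mul_fix_right hd', mul_inv_cancel_left]
    exact e
  have hysq : ∀ r : Q ⧸ Fix α, r ∉ hs.D → r * r = 1 := fun r hr => by
    obtain ⟨y, rfl⟩ := QuotientGroup.mk_surjective r
    refine (QuotientGroup.eq_one_iff (y * y)).2 ?_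
    by_contra hc
    exact hnd y (y * y) hr (hsq y) hc (cm_eq_one.2 (mul_assoc y y y).symm)
  have hconj : ∀ r x : Q ⧸ Fix α, r ∉ hs.D → x ∈ hs.D → r⁻¹ * x * r = x⁻¹ := fun r x hr hx => by
    have e := hysq (r * x) (fun e => hr (by simpa using mul_mem e (inv_mem hx)))
    rw [inv_eq_of_mul_eq_one_right (hysq r hr)]
    refine eq_inv_of_mul_eq_one_left ?_
    rw [← e]
    simp [mul_assoc]
  -- two elements outside `hs.D` with product outside
  have hq : 4 ≤ Nat.card (Fix α') := by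
    rw [hs.card_Fix]
    exact le_trans (by norm_num) (Nat.pow_le_pow_right (by norm_num : 0 < 2) h.two_le)
  obtain ⟨c1, c2, hc1, hc2, hc12⟩ : ∃ c1 c2 : Fix α', c1 ≠ 1 ∧ c2 ≠ 1 ∧ c1 * c2 ≠ 1 := by
    haveI : Fintype (Fix α') := Fintype.ofFinite _
    rw [Nat.card_eq_fintype_card] at hq
    obtain ⟨c1, hc1⟩ := Fintype.exists_ne_of_one_lt_card (lt_of_lt_of_le (by norm_num) hq) (1 : Fix α')
    obtain ⟨c2, hc2⟩ : ∃ c2, c2 ∉ ({1, c1⁻¹} : Finset (Fix α')) := by
      by_contra hc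
      push Not at hc
      have h1 := Finset.card_le_card (fun a _ => hc a : (Finset.univ : Finset (Fix α')) ⊆ _)
      have := Finset.card_le_two (a := (1 : Fix α')) (b := c1⁻¹)
      rw [Finset.card_univ] at h1
      omega
    simp only [Finset.mem_insert, Finset.mem_singleton, not_or] at hc2
    exact ⟨c1, c2, hc1, hc2.1, fun e => hc2.2 (eq_inv_of_mul_eq_one_right e)⟩
  obtain ⟨w, hw⟩ : ∃ w, w ∉ Fix α' := ⟨r0, fun e => hr0 (hs.Fix_le_D e)⟩
  obtain ⟨⟨x1, hx1⟩, hd1⟩ := (hs.range_dHom hw).ge c1.2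
  obtain ⟨⟨x2, hx2⟩, hd2⟩ := (hs.range_dHom hw).ge c2.2
  have hd1' : delta α' x1 = c1 := hd1
  have hd2' : delta α' x2 = c2 := hd2
  obtain ⟨r1, hr1⟩ := hψD hx1
  obtain ⟨r2, hr2⟩ := hψD hx2
  have hout : ∀ r z : Q ⧸ Fix α, ψ r = mk' z → delta α' z ≠ 1 → r ∉ hs.D := fun r z e hz hr => by
    rw [hψ] at e
    have h1 : (delta α' r)⁻¹ * z ∈ Fix α' := QuotientGroup.eq.1 e
    refine hz (hs.delta_eq_one.2 ?_)
    have := mul_mem (show delta α' r ∈ Fix α' from hr) h1
    rwa [mul_inv_cancel_left] at this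
  have ho1 : r1 ∉ hs.D := hout r1 x1 hr1 (by rw [hd1']; exact fun e => hc1 (Subtype.ext e))
  have ho2 : r2 ∉ hs.D := hout r2 x2 hr2 (by rw [hd2']; exact fun e => hc2 (Subtype.ext e))
  have ho3 : r1 * r2 ∉ hs.D := hout _ (x1 * x2) (by rw [map_mul, map_mul, hr1, hr2])
    (by rw [hs.delta_mul hx1, hd1', hd2']; exact fun e => hc12 (Subtype.ext e))
  have e3 := hconj (r1 * r2) x1 ho3 hx1
  rw [show (r1 * r2)⁻¹ * x1 * (r1 * r2) = r2⁻¹ * (r1⁻¹ * x1 * r1) * r2 by simp [mul_assoc],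
    hconj r1 x1 ho1 hx1, hconj r2 x1⁻¹ ho2 (inv_mem hx1), inv_inv] at e3
  have e4 := hconj r1 x1 ho1 hx1
  rw [← e3] at e4
  refine hS.nondeg r1 x1 ho1 hx1 (fun e => hc1 (Subtype.ext ?_)) (cm_eq_one.2 ?_)
  · rw [← hd1']; exact hs.delta_eq_one.2 e
  · rw [mul_assoc] at e4
    exact (inv_mul_eq_iff_eq_mul.1 e4).symm

theorem cm_sq_left (hc : ∀ a b : Q, cm a b ∈ Fix α) (z g : Q) : cm (z * z) g = 1 := by
  rw [h.cm_mul_left' (hc z g), h.sq_one _ (hc z g)]

/-- With abelian quotient, one square in `D` outside the fixed points makes `D` central. -/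
theorem D_central (hc : ∀ a b : Q, cm a b ∈ Fix α) {z : Q} (hzD : z * z ∈ h.D) (hzC : z * z ∉ Fix α)
    {d : Q} (hd : d ∈ h.D) (g : Q) : g * d = d * g := by
  have hst : ∀ x ∈ Subgroup.center Q, ρ x ∈ Subgroup.center Q := fun x hx =>
    Subgroup.mem_center_iff.2 fun g => by
      obtain ⟨g, rfl⟩ := ρ.surjective g
      rw [← map_mul, ← map_mul, Subgroup.mem_center_iff.1 hx]
  have hz : z * z ∈ Subgroup.center Q :=
    Subgroup.mem_center_iff.2 fun g => (cm_eq_one.1 (h.cm_sq_left hc z g)).symm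
  exact Subgroup.mem_center_iff.1 (h.D_le_of_stable hst h.Fix_le_center hz hzD hzC hd) g

/-- The case of an abelian quotient of exponent four or more. -/
theorem comm_of_sq_not_mem (hc : ∀ a b : Q, cm a b ∈ Fix α) {y : Q} (hy : y * y ∉ h.D) (a b : Q) :
    cm a b = 1 := by
  classical
  haveI : Fact (Nat.Prime 2) := ⟨Nat.prime_two⟩
  haveI := h.normal
  obtain ⟨m, hm⟩ := IsPGroup.iff_card.1 h.two
  have hone : ∀ g : Q, g ^ (2 ^ m) = 1 := fun g => hm ▸ pow_card_eq_one'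
  have hfind : ∀ k (y : Q), y * y ∉ h.D → y ^ (2 ^ k) ∈ h.D → ∃ s : Q, s * s ∉ h.D ∧ (s * s) * (s * s) ∈ h.D := by
    intro k
    induction k with
    | zero => intro y h1 h2; rw [pow_zero, pow_one] at h2; exact absurd (mul_mem h2 h2) h1
    | succ k ih =>
      intro y h1 h2
      by_cases h3 : (y * y) * (y * y) ∈ h.D
      · exact ⟨y, h1, h3⟩
      · exact ih (y * y) h3 (by rwa [← sq, ← pow_mul, mul_comm, ← pow_succ])
  obtain ⟨s, hs1, hs2⟩ := hfind m y hy (by rw [hone]; exact one_mem _)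
  have hprod : ∀ t : Q, t * α t ∈ h.D := fun t => by
    rw [h.mem_D, delta, map_mul, h.invol]
    have e : (t * α t)⁻¹ * (α t * t) = cm (α t) t := by simp [cm, mul_assoc]
    rw [e]; exact hc _ _
  letI : CommGroup (Q ⧸ Fix α) :=
    { (inferInstance : Group (Q ⧸ Fix α)) with
      mul_comm := fun a b => by
        obtain ⟨a, rfl⟩ := QuotientGroup.mk_surjective a
        obtain ⟨b, rfl⟩ := QuotientGroup.mk_surjective b
        exact cm_eq_one.1 ((map_cm (QuotientGroup.mk' (Fix α)) a b).symm.trans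
          ((QuotientGroup.eq_one_iff _).2 (hc a b))) }
  let mk : Q →* Q ⧸ Fix α := QuotientGroup.mk' (Fix α)
  have hmk1 : ∀ t, mk t = 1 ↔ t ∈ Fix α := fun t => QuotientGroup.eq_one_iff t
  set x := s * s with hx
  have hx0 : x * α x ∈ Fix α := by
    rw [← hmk1]
    have e := (hmk1 _).2 (h.sq_D (hprod s))
    rw [map_mul, map_mul] at e
    rw [hx, map_mul α, map_mul, map_mul, map_mul, mul_mul_mul_comm]
    exact e
  have hxC : x * x ∉ Fix α := fun e => hs1 (by
    rw [h.mem_D, ← hmk1, delta, map_mul, map_inv]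
    rw [← hmk1, map_mul] at e hx0
    rw [inv_eq_of_mul_eq_one_right e]
    exact hx0)
  have hcen : ∀ d ∈ h.D, ∀ g, g * d = d * g := fun d hd g => h.D_central hc hs2 hxC hd g
  have hcomm : s * α s = α s * s := by
    have e := hcen _ (hprod s) s
    rw [mul_assoc s (α s) s] at e
    exact mul_left_cancel e
  have hfixd : s * α s ∈ Fix α := by
    rw [mem_Fix, map_mul, h.invol, hcomm]
  have hinv : α x = x⁻¹ := by
    refine (inv_eq_of_mul_eq_one_right ?_).symm
    rw [hx, map_mul, ← h.sq_one _ hfixd]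
    calc s * s * (α s * α s) = s * (s * α s) * α s := by simp [mul_assoc]
      _ = s * (α s * s) * α s := by rw [hcomm]
      _ = s * α s * (s * α s) := by simp [mul_assoc]
  have hd0 : (x * x) * (x * x) ≠ 1 := fun e => hxC (mem_Fix.2 (by
    rw [map_mul, hinv, ← mul_inv_rev]; exact inv_eq_of_mul_eq_one_right e))
  let E : Subgroup Q :=
    { carrier := {d | d ∈ h.D ∧ d * d = 1}
      one_mem' := ⟨one_mem _, one_mul 1⟩
      mul_mem' := fun {u v} hu hv => ⟨mul_mem hu.1 hv.1, by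
        calc u * v * (u * v) = u * (v * u) * v := by simp [mul_assoc]
          _ = u * (u * v) * v := by rw [hcen u hu.1 v]
          _ = (u * u) * (v * v) := by simp [mul_assoc]
          _ = 1 := by rw [hu.2, hv.2, one_mul]⟩
      inv_mem' := fun {u} hu => ⟨inv_mem hu.1, by rw [← mul_inv_rev, hu.2, inv_one]⟩ }
  have homega : ∀ d ∈ h.D, d * d = 1 → d ∈ Fix α := fun d hd hdd => by
    by_contra hdC
    have := h.D_le_of_stable (S := E) (fun u hu => ⟨h.rho_mem_D hu.1, by rw [← map_mul, hu.2, map_one]⟩)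
      (fun u hu => ⟨h.Fix_le_D hu, h.sq_one _ hu⟩) (x := d) ⟨hd, hdd⟩ hd hdC hs2
    exact hd0 this.2
  have hroot : ∀ v : Q, v * v ∈ Fix α → v ∈ h.D := fun v hv => by
    have e : delta α v = (v * v)⁻¹ * (v * α v) := by simp [delta, mul_assoc]
    have hdv : delta α v ∈ h.D := e ▸ mul_mem (inv_mem (h.Fix_le_D hv)) (hprod v)
    have e2 := mem_Fix.1 hv
    rw [map_mul, apply_eq α v] at e2
    refine homega _ hdv ?_
    rw [show v * delta α v * (v * delta α v) = v * (delta α v * v) * delta α v by simp [mul_assoc],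
      ← hcen _ hdv v, show v * (v * delta α v) * delta α v = v * v * (delta α v * delta α v) by simp [mul_assoc]] at e2
    exact mul_eq_left.1 e2
  -- the top layer
  have hex : ∃ K, ∀ g : Q, g ^ (2 ^ K) ∈ Fix α := ⟨m, fun g => by rw [hone]; exact one_mem _⟩
  have hK0 : Nat.find hex ≠ 0 := fun e => by
    have h1 := Nat.find_spec hex y
    rw [e, pow_zero, pow_one] at h1
    exact hy (mul_mem (h.Fix_le_D h1) (h.Fix_le_D h1))
  obtain ⟨k0, hk0⟩ := Nat.exists_eq_succ_of_ne_zero hK0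
  have hK := Nat.find_spec hex
  rw [hk0] at hK
  obtain ⟨g0, hg0⟩ : ∃ g : Q, g ^ (2 ^ k0) ∉ Fix α := by
    by_contra hcon
    push Not at hcon
    exact Nat.find_min hex (by omega) hcon
  have hpD : ∀ g : Q, g ^ (2 ^ k0) ∈ h.D := fun g => hroot _ (by
    rw [← sq, ← pow_mul, ← pow_succ]; exact hK g)
  let e4 : Q →* Q :=
    { toFun := fun g => delta α (g ^ (2 ^ k0))
      map_one' := by simp [delta]
      map_mul' := fun u v => by
        have h1 : (u ^ (2 ^ k0) * v ^ (2 ^ k0))⁻¹ * (u * v) ^ (2 ^ k0) ∈ Fix α := by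
          rw [← hmk1]
          simp [map_mul, map_pow, map_inv, mul_pow]
        have h2 := h.delta_mul (show u ^ (2 ^ k0) * v ^ (2 ^ k0) ∈ h.D from mul_mem (hpD u) (hpD v)) ((u ^ (2 ^ k0) * v ^ (2 ^ k0))⁻¹ * (u * v) ^ (2 ^ k0))
        rw [mul_inv_cancel_left, h.delta_eq_one.2 h1, mul_one, h.delta_mul (hpD u)] at h2
        exact h2 }
  have hρe : ∀ g, e4 (ρ g) = ρ (e4 g) := fun g => by
    show delta α ((ρ g) ^ (2 ^ k0)) = ρ (delta α (g ^ (2 ^ k0)))
    rw [← map_pow, h.delta_rho]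
  have he4 : e4.range = Fix α :=
    h.range_eq ρ e4 hρe (fun g => hpD g) ⟨g0, fun e => hg0 (h.delta_eq_one.1 e)⟩
  let φ : (Q ⧸ Fix α) →* Q := QuotientGroup.lift (Fix α) e4 fun c hc' =>
    h.delta_eq_one.2 (pow_mem hc' _)
  have hφr : φ.range = Fix α := by
    refine Eq.trans ?_ he4
    ext w
    refine ⟨?_, fun ⟨g, hg⟩ => ⟨mk g, hg⟩⟩
    rintro ⟨g, rfl⟩
    obtain ⟨g, rfl⟩ := QuotientGroup.mk_surjective g
    exact ⟨g, rfl⟩
  let sqh : (Q ⧸ Fix α) →* (Q ⧸ Fix α) := powMonoidHom 2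
  have hle : sqh.range ≤ φ.ker := by
    rintro _ ⟨g, rfl⟩
    obtain ⟨g, rfl⟩ := QuotientGroup.mk_surjective g
    show delta α ((g ^ 2) ^ (2 ^ k0)) = 1
    rw [← pow_mul, ← pow_succ']
    exact h.delta_eq_one.2 (hK g)
  obtain ⟨w, hw⟩ : ∃ w, w ∉ Fix α := ⟨g0 ^ (2 ^ k0), hg0⟩
  obtain ⟨α', ρ', -, hfix, hs'⟩ := h.exists_quot hw
  have hkc : Nat.card sqh.ker = 2 ^ n := by
    rw [← hs'.card_Fix]
    refine Nat.card_congr (Equiv.subtypeEquivRight fun r => ?_)
    obtain ⟨r, rfl⟩ := QuotientGroup.mk_surjective r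
    rw [MonoidHom.mem_ker, hfix]
    show (r : Q ⧸ Fix α) ^ 2 = 1 ↔ _
    rw [sq, ← QuotientGroup.mk_mul, QuotientGroup.eq_one_iff]
    exact ⟨hroot r, h.sq_D⟩
  have hker : sqh.range = φ.ker := by
    refine Subgroup.eq_of_le_of_card_ge hle ?_
    have h1 := sqh.ker.card_mul_index
    rw [Subgroup.index_ker, hkc] at h1
    have h2 := φ.ker.card_mul_index
    rw [Subgroup.index_ker, hφr, h.card_Fix] at h2
    exact Nat.le_of_mul_le_mul_left (by rw [h1, mul_comm, h2]) (by positivity)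
  have hk : ∀ u v : Q, e4 u = 1 → cm u v = 1 ∧ cm v u = 1 := fun u v e => by
    have h1 : mk u ∈ φ.ker := e
    rw [← hker] at h1
    obtain ⟨r, hr⟩ := h1
    obtain ⟨r, rfl⟩ := QuotientGroup.mk_surjective r
    have hr' : mk (r * r) = mk u := by rw [map_mul, ← sq]; exact hr
    have hc1 : (r * r)⁻¹ * u ∈ Fix α := QuotientGroup.eq.1 hr'
    have h3 : cm u v = 1 := by
      rw [← mul_inv_cancel_left (r * r) u, h.cm_mul_fix_left hc1]
      exact h.cm_sq_left hc r v
    exact ⟨h3, cm_eq_one.2 (cm_eq_one.1 h3).symm⟩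
  exact h.alt_trivial ρ e4 he4 hρe (fun u v => cm u v) (fun u v => hc u v)
    (fun u u' v => h.cm_mul_left' (hc u v) u') (fun u v v' => h.cm_mul_right' (hc u v) v')
    hk (fun u v => (map_cm ρ u v).symm) (fun u => cm_self u) a b

/-- The case of an abelian quotient with squares in `D`. -/
theorem shape_of_sq_mem (hc : ∀ a b : Q, cm a b ∈ Fix α) (hna : ¬ ∀ a b : Q, cm a b = 1)
    (hsq : ∀ y : Q, y * y ∈ h.D) : Shape α n := by
  classical
  haveI := h.normal
  letI : CommGroup (Q ⧸ Fix α) :=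
    { (inferInstance : Group (Q ⧸ Fix α)) with
      mul_comm := fun a b => by
        obtain ⟨a, rfl⟩ := QuotientGroup.mk_surjective a
        obtain ⟨b, rfl⟩ := QuotientGroup.mk_surjective b
        exact cm_eq_one.1 ((map_cm (QuotientGroup.mk' (Fix α)) a b).symm.trans
          ((QuotientGroup.eq_one_iff _).2 (hc a b))) }
  let mk : Q →* Q ⧸ Fix α := QuotientGroup.mk' (Fix α)
  have hmk1 : ∀ t, mk t = 1 ↔ t ∈ Fix α := fun t => QuotientGroup.eq_one_iff t
  have hdD : ∀ y, delta α y ∈ h.D := fun y => by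
    rw [h.mem_D]
    have e : delta α (delta α y) = (delta α y * delta α y)⁻¹ := by simp [delta, h.invol, mul_assoc]
    rw [e]
    refine inv_mem ((hmk1 _).1 ?_)
    have e2 := (hmk1 _).2 (hsq y)
    simp only [delta, map_mul, map_inv, mul_inv_rev] at e2 ⊢
    rw [← e2]
    simp [mul_comm, mul_left_comm, mul_assoc]
  let e3 : Q →* Q :=
    { toFun := fun y => delta α (delta α y)
      map_one' := by simp [delta]
      map_mul' := fun y z => by
        have e : delta α (y * z) = delta α y * cm (delta α y) z * delta α z := by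
          simp [delta, cm, mul_assoc]
        rw [e, h.delta_mul (show delta α y * cm (delta α y) z ∈ h.D from
            mul_mem (hdD y) (h.Fix_le_D (hc _ _))), h.delta_mul (hdD y),
          h.delta_eq_one.2 (hc _ _), mul_one] }
  have hρe : ∀ g, e3 (ρ g) = ρ (e3 g) := fun g => by
    show delta α (delta α (ρ g)) = ρ (delta α (delta α g))
    rw [h.delta_rho, h.delta_rho]
  have hker : ∀ y, e3 y = 1 ↔ y ∈ h.D := fun y => h.delta_eq_one
  obtain ⟨y0, hy0⟩ : ∃ y, y ∉ h.D := by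
    by_contra hcon
    push Not at hcon
    exact hna fun a b => h.D_comm (hcon a) (hcon b)
  have he3 : e3.range = Fix α :=
    h.range_eq ρ e3 hρe (fun g => hdD g) ⟨y0, fun e => hy0 ((hker _).1 e)⟩
  have hncen : ¬ ∀ d ∈ h.D, ∀ g, cm g d = 1 := fun hcen => hna fun a b =>
    h.alt_trivial ρ e3 he3 hρe (fun u v => cm u v) (fun u v => hc u v)
      (fun u u' v => h.cm_mul_left' (hc u v) u') (fun u v v' => h.cm_mul_right' (hc u v) v')
      (fun u v e => ⟨cm_eq_one.2 (cm_eq_one.1 (hcen u ((hker u).1 e) v)).symm, hcen u ((hker u).1 e) v⟩)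
      (fun u v => (map_cm ρ u v).symm) (fun u => cm_self u) a b
  refine ⟨?_, fun y => ?_, fun y d hy hd hdC hyd => hncen fun d' hd' g => ?_⟩
  · have hy0C : y0 ∉ Fix α := fun e => hy0 (h.Fix_le_D e)
    rw [← e3.ker.card_mul_index, Subgroup.index_ker, he3, h.card_Fix, show e3.ker = h.D from
      Subgroup.ext hker, h.card_D hy0C]
  · by_contra hy
    exact hncen fun d hd g => cm_eq_one.2 (h.D_central hc (hsq y) hy hd g)
  · exact h.form_trivial ρ (restrict ρ h.D fun z hz => h.rho_mem_D hz) e3 h.dHom he3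
      (h.range_dHom fun e => hy0 (h.Fix_le_D e)) hρe (fun m => h.delta_rho m.1) (fun u v => cm u (v : Q))
      (fun u v => hc _ _) (fun u u' v => h.cm_mul_left' (hc _ _) u') (fun u v v' => h.cm_mul_right' (hc _ _) v'.1)
      (fun u v e => h.D_comm ((hker u).1 e) v.2) (fun u v e => h.cm_fix_right (h.delta_eq_one.1 e) _)
      (fun u v => (map_cm ρ u v.1).symm)
      ⟨y, ⟨d, hd⟩, fun e => hy ((hker y).1 e), fun e => hdC (h.delta_eq_one.1 e), hyd⟩ g ⟨d', hd'⟩

end Setting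

/-- The structure theorem. -/
theorem comm_or_shape {α ρ : MulAut Q} {n : ℕ} (h : Setting α ρ n) :
    (∀ a b : Q, cm a b = 1) ∨ Shape α n := by
  suffices key : ∀ N : ℕ, ∀ (Q' : Type u) [Group Q'] [Finite Q'] (α' ρ' : MulAut Q'),
      Nat.card Q' < N → Setting α' ρ' n → (∀ a b : Q', cm a b = 1) ∨ Shape α' n from
    key _ Q α ρ (Nat.lt_succ_self _) h
  intro N
  induction N with
  | zero => intro Q' _ _ α' ρ' hN; omega
  | succ N ih =>
    intro Q' _ _ α ρ hN h
    by_cases hall : ∀ z, z ∈ Fix α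
    · exact Or.inl fun a b => h.cm_fix_left (hall a) b
    push Not at hall
    obtain ⟨z, hz⟩ := hall
    haveI := h.normal
    obtain ⟨α', ρ', hα', hfix, hs⟩ := h.exists_quot hz
    have hlt : Nat.card (Q' ⧸ Fix α) < N := by
      have e := Subgroup.card_eq_card_quotient_mul_card_subgroup (Fix α)
      rw [h.card_Fix] at e
      have : 2 ^ 2 ≤ 2 ^ n := Nat.pow_le_pow_right (by norm_num) h.two_le
      have : 0 < Nat.card (Q' ⧸ Fix α) := Nat.card_pos
      nlinarith
    rcases ih (Q' ⧸ Fix α) α' ρ' hlt hs with hcm | hshape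
    · have hc : ∀ a b : Q', cm a b ∈ Fix α := fun a b =>
        (QuotientGroup.eq_one_iff _).1 ((map_cm (QuotientGroup.mk' (Fix α)) a b).trans (hcm _ _))
      by_cases hab : ∀ a b : Q', cm a b = 1
      · exact Or.inl hab
      refine Or.inr (h.shape_of_sq_mem hc hab fun y => ?_)
      by_contra hy
      exact hab (h.comm_of_sq_not_mem hc hy)
    · exact (h.shape_quot_false hα' hfix hs hshape).elim

end Cfsg.Agent.FixedTransitive
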