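import Cfsg.Agent.Lib.U3Two.Heisenberg
import Cfsg.Agent.Lib.FixedTransitive.Criterion

/-!
A Sylow 2-subgroup of `PSU₃(q)`, `q` even, as an extension with square map `a U ^ 2 + U V + V ^ 2`
when `t ^ 2 + t = a` has no root in `GF(q)`.
-/

set_option autoImplicit false
set_option linter.unusedSectionVars false
set_option linter.style.haveILetI false

namespace Cfsg.Agent.FixedTransitive.Unitary

open Polynomial

variable {K : Type} [Field K] [Fintype K] {n : ℕ}

/-- The quadratic extension with a root of `X ^ 2 + X + a`. -/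
theorem exists_quadratic [CharP K 2] (hK : Fintype.card K = 2 ^ n) (a : K) (ha : ∀ t : K, t ^ 2 + t ≠ a) :
    ∃ (F : Type) (_ : Field F) (_ : Fintype F) (j : K →+* F) (t : F),
      Fintype.card F = (2 ^ n) ^ 2 ∧ t ^ 2 + t = j a ∧ t ∉ Set.range j := by
  classical
  have h2 : (2 : K) = 0 := CharTwo.two_eq_zero
  set p : K[X] := X ^ 2 + X + C a with hp
  have hdeg : p.natDegree = 2 := by rw [hp]; compute_degree!
  have hmon : p.Monic := by rw [hp]; monicity!
  have hirr : Irreducible p := by
    refine Polynomial.irreducible_of_degree_le_three_of_not_isRoot (by rw [hdeg]; simp) fun x hx => ha x ?_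
    simp only [hp, IsRoot.def, eval_add, eval_pow, eval_X, eval_C] at hx
    linear_combination hx - a * h2
  haveI : Fact (Irreducible p) := ⟨hirr⟩
  let pb := AdjoinRoot.powerBasis hirr.ne_zero
  haveI : Module.Finite K (AdjoinRoot p) := pb.finite
  haveI : Finite (AdjoinRoot p) := Module.finite_of_finite K
  letI : Fintype (AdjoinRoot p) := Fintype.ofFinite _
  refine ⟨AdjoinRoot p, inferInstance, inferInstance, AdjoinRoot.of p, AdjoinRoot.root p, ?_, ?_, ?_⟩
  · rw [← Nat.card_eq_fintype_card, Module.natCard_eq_pow_finrank (K := K), pb.finrank,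
      AdjoinRoot.powerBasis_dim, hdeg, Nat.card_eq_fintype_card, hK]
  · have e := AdjoinRoot.eval₂_root p
    simp only [hp, eval₂_add, eval₂_X_pow, eval₂_X, eval₂_C] at e
    have h2' : (2 : AdjoinRoot p) = 0 := by
      rw [← map_ofNat (AdjoinRoot.of p) 2, h2, map_zero]
    linear_combination e - (AdjoinRoot.of p a) * h2'
  · rintro ⟨x, hx⟩
    refine ha x ((AdjoinRoot.of p).injective ?_)
    have e := AdjoinRoot.eval₂_root p
    simp only [hp, eval₂_add, eval₂_X_pow, eval₂_X, eval₂_C] at e
    have h2' : (2 : AdjoinRoot p) = 0 := by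
      rw [← map_ofNat (AdjoinRoot.of p) 2, h2, map_zero]
    rw [map_add, map_pow, hx]
    linear_combination e - (AdjoinRoot.of p a) * h2'

/-- The extension structure. -/
theorem sqExt (hn : 1 ≤ n) (hK : Fintype.card K = 2 ^ n) {F : Type} [Field F] [Fintype F]
    (hF : Fintype.card F = (2 ^ n) ^ 2) (j : K →+* F) {t : F} {a : K} (ht : t ^ 2 + t = j a)
    (htj : t ∉ Set.range j) :
    Nonempty (SqExt (U3Two.syl hn hF) (K × K) K (fun p => a * p.1 ^ 2 + p.1 * p.2 + p.2 ^ 2)) := by
  classical
  haveI := U3Two.charTwo hn hF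
  have h2 : (2 : F) = 0 := CharTwo.two_eq_zero
  have hjq : ∀ x : K, j x ^ 2 ^ n = j x := fun x => by rw [← map_pow, ← hK, FiniteField.pow_card]
  let jfix : K → {b : F // b ^ 2 ^ n = b} := fun x => ⟨j x, hjq x⟩
  have hjb : Function.Bijective jfix := by
    refine (Nat.bijective_iff_injective_and_card jfix).2
      ⟨fun x y e => j.injective (congrArg Subtype.val e), ?_⟩
    rw [Nat.card_eq_fintype_card, hK, U3Two.card_fix hn hF]
  have hrange : ∀ b : F, b ^ 2 ^ n = b → ∃ x, j x = b := fun b hb =>
    (hjb.2 ⟨b, hb⟩).elim fun x hx => ⟨x, congrArg Subtype.val hx⟩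
  -- the other root
  have htq : t ^ 2 ^ n = t + 1 := by
    have e := congrArg (fun z => z ^ 2 ^ n) ht
    simp only [U3Two.qadd hn hF, hjq, ← pow_mul, mul_comm 2] at e
    rw [pow_mul] at e
    have hne : t ^ 2 ^ n - t ≠ 0 := fun h0 => htj (hrange t (sub_eq_zero.1 h0))
    have : (t ^ 2 ^ n - t) * (t ^ 2 ^ n + t + 1) = 0 := by linear_combination e - ht
    have := (mul_eq_zero.1 this).resolve_left hne
    linear_combination this - (t + 1) * h2
  -- coordinates
  let pair : K × K → F := fun p => j p.2 + t * j p.1
  have hpair : Function.Bijective pair := by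
    refine (Nat.bijective_iff_injective_and_card pair).2 ⟨?_, ?_⟩
    · rintro ⟨U, V⟩ ⟨U', V'⟩ (e : j V + t * j U = j V' + t * j U')
      by_cases hU : U = U'
      · subst hU
        exact Prod.ext rfl (j.injective (add_right_cancel e))
      · refine absurd ⟨(V' - V) / (U - U'), ?_⟩ htj
        have hne : j U - j U' ≠ 0 := fun e0 => hU (j.injective (sub_eq_zero.1 e0))
        rw [map_div₀, map_sub, map_sub, div_eq_iff hne]
        linear_combination -e
    · rw [Nat.card_prod, Nat.card_eq_fintype_card, Nat.card_eq_fintype_card, hK, hF, sq]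
  let co : F → K × K := (Equiv.ofBijective pair hpair).symm
  have hco : ∀ A, pair (co A) = A := (Equiv.ofBijective pair hpair).apply_symm_apply
  have hco' : ∀ p, co (pair p) = p := (Equiv.ofBijective pair hpair).symm_apply_apply
  have hpadd : ∀ p r, pair (p + r) = pair p + pair r := fun p r => by
    simp only [pair, Prod.fst_add, Prod.snd_add, map_add]; ring
  have hcoadd : ∀ A B, co (A + B) = co A + co B := fun A B => by
    rw [← hco A, ← hco B, ← hpadd, hco', hco', hco']
  let gi : F → K := Function.invFun j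
  have hgi : ∀ b, b ^ 2 ^ n = b → j (gi b) = b := fun b hb => Function.invFun_eq (hrange b hb)
  let P := (U3Two.param hn hF).symm
  have hP : ∀ x y, (P (x * y)).1 = U3Two.pmul n (P x).1 (P y).1 := fun x y => by
    have : P (x * y) = U3Two.prod hn hF (P x) (P y) := by
      rw [Equiv.symm_apply_eq, ← U3Two.param_prod, Equiv.apply_symm_apply, Equiv.apply_symm_apply]
    rw [this]; rfl
  have hco0 : ∀ A, co A = 0 → A = 0 := fun A e => by
    rw [← hco A, e]; simp [pair]
  have hfix : ∀ x, (P x).1.1 = 0 → (P x).1.2 ^ 2 ^ n = (P x).1.2 := fun x hx => by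
    have h := (P x).2
    unfold U3Two.cond at h
    rw [hx, zero_pow (Nat.succ_ne_zero _)] at h
    exact (U3Two.tr_eq_zero hn hF).1 h
  exact ⟨
    { f := fun x => co (P x).1.1
      f_mul := fun x y => by rw [hP]; exact hcoadd _ _
      f_surj := fun p => by
        obtain ⟨b, hb⟩ := U3Two.exists_par hn hF (pair p)
        exact ⟨U3Two.param hn hF ⟨(pair p, b), hb⟩, by simp [P, hco']⟩
      g := fun x => gi (P x).1.2
      g_mul := fun x y hx hy => by
        refine j.injective ?_
        have hx' := hco0 _ hx
        have hy' := hco0 _ hy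
        rw [map_add, hgi _ (hfix x hx'), hgi _ (hfix y hy'), hgi _ (hfix (x * y) (by
          rw [hP]; simp [U3Two.pmul, hx', hy']))]
        rw [hP]
        simp [U3Two.pmul, hy']
      g_inj := fun x hx hg => by
        have hx' := hco0 _ hx
        have hb : (P x).1.2 = 0 := by rw [← hgi _ (hfix x hx'), hg, map_zero]
        have : P x = U3Two.zero' hn hF := Subtype.ext (Prod.ext hx' hb)
        rw [← U3Two.param_zero hn hF, ← this]
        exact (Equiv.apply_symm_apply _ x).symm
      g_surj := fun w => by
        have hc : U3Two.cond n ((0 : F), j w) := by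
          show j w + j w ^ 2 ^ n = (0 : F) ^ (2 ^ n + 1)
          rw [hjq, zero_pow (Nat.succ_ne_zero _), CharTwo.add_self_eq_zero]
        refine ⟨U3Two.param hn hF ⟨((0 : F), j w), hc⟩, ?_, ?_⟩
        · have : co (0 : F) = 0 := by
            have e := hco' 0
            rwa [show pair 0 = 0 by simp [pair]] at e
          simp [P, this]
        · simp only [P, Equiv.symm_apply_apply]
          exact Function.leftInverse_invFun j.injective w
      central := fun x hx y => by
        have hx' := hco0 _ hx
        have hc := (U3Two.mem_center_iff hn hF (P x)).2 hx'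
        rw [show U3Two.param hn hF (P x) = x from Equiv.apply_symm_apply _ x] at hc
        exact Subgroup.mem_center_iff.1 hc y
      sq := fun y => by
        refine j.injective ?_
        obtain ⟨⟨U, V⟩, hUV⟩ : ∃ p, co (P y).1.1 = p := ⟨_, rfl⟩
        rw [hUV]
        have hA : (P y).1.1 = j V + t * j U := by rw [← hco (P y).1.1, hUV]
        have hsq0 : (P (y * y)).1.2 = (P y).1.1 ^ 2 ^ n * (P y).1.1 := by
          rw [hP]; simp [U3Two.pmul, CharTwo.add_self_eq_zero]
        have hval : (P y).1.1 ^ 2 ^ n * (P y).1.1 = j (a * U ^ 2 + U * V + V ^ 2) := by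
          rw [hA, U3Two.qadd hn hF, mul_pow, hjq, hjq, htq]
          simp only [map_add, map_mul, map_pow]
          linear_combination (j U) ^ 2 * ht + t * j U * j V * h2
        show j (gi (P (y * y)).1.2) = _
        rw [hsq0, hgi _ (by rw [hval, hjq]), hval] }⟩

end Cfsg.Agent.FixedTransitive.Unitary
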